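import Mathlib
import Cfsg.Prelude.Def_LinearParabolics

/-!
The Bruhat decomposition of the general linear group.
-/

set_option autoImplicit false

namespace CfsgLib.GLUnipotent

open Matrix

variable {n : ℕ} {F : Type*} [Field F]

/-- Permutation matrices, column `j` is the unit vector at `π j`. -/
def pmat (F : Type*) [Field F] (π : Equiv.Perm (Fin n)) : Matrix (Fin n) (Fin n) F :=
  fun i j => if i = π j then 1 else 0

theorem pmat_mul (π ρ : Equiv.Perm (Fin n)) : pmat F π * pmat F ρ = pmat F (π * ρ) := by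
  ext i j
  rw [Matrix.mul_apply, Finset.sum_eq_single (ρ j)]
  · simp [pmat] <;> exact if_congr Iff.rfl rfl rfl
  · intro k _ hk; simp [pmat, hk]
  · simp

theorem pmat_one : pmat F (1 : Equiv.Perm (Fin n)) = 1 := by
  ext i j; simp [pmat, Matrix.one_apply] <;> exact if_congr Iff.rfl rfl rfl

/-- Permutations as invertible matrices. -/
def permGL (n : ℕ) (F : Type*) [Field F] : Equiv.Perm (Fin n) →* GL (Fin n) F where
  toFun π := ⟨pmat F π, pmat F π⁻¹, by rw [pmat_mul, mul_inv_cancel, pmat_one],
    by rw [pmat_mul, inv_mul_cancel, pmat_one]⟩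
  map_one' := Units.ext pmat_one
  map_mul' π ρ := Units.ext (pmat_mul π ρ).symm

theorem permGL_val (π : Equiv.Perm (Fin n)) :
    ((permGL n F π : GL (Fin n) F) : Matrix (Fin n) (Fin n) F) = pmat F π := rfl

theorem permGL_apply (π : Equiv.Perm (Fin n)) (i j : Fin n) :
    ((permGL n F π : GL (Fin n) F) : Matrix (Fin n) (Fin n) F) i j = if i = π j then 1 else 0 := rfl

/-- The first `k` columns are pivots. -/
def Piv (M : Matrix (Fin n) (Fin n) F) (k : ℕ) : Prop :=
  ∀ j : Fin n, j.val < k → ∃ i, M i j = 1 ∧ (∀ i', i' ≠ i → M i' j = 0) ∧ ∀ j', j' ≠ j → M i j' = 0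

theorem exists_upper {A : Matrix (Fin n) (Fin n) F} (hA : ∀ i j, j < i → A i j = 0)
    (hd : ∀ i, A i i ≠ 0) :
    ∃ g ∈ Cfsg.upperTriangularGL n F, (g : Matrix (Fin n) (Fin n) F) = A := by
  have ht : A.BlockTriangular id := fun i j h => hA i j h
  have hdet : A.det ≠ 0 := by
    rw [Matrix.det_of_isUpperTriangular ht]
    exact Finset.prod_ne_zero_iff.2 fun i _ => hd i
  exact ⟨Matrix.GeneralLinearGroup.mkOfDetNeZero A hdet, ht, rfl⟩

theorem piv_step (g : GL (Fin n) F) {k : ℕ} (hk : k < n)
    (h : Piv (g : Matrix (Fin n) (Fin n) F) k) :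
    ∃ b ∈ Cfsg.upperTriangularGL n F, ∃ b' ∈ Cfsg.upperTriangularGL n F,
      Piv ((b * g * b' : GL (Fin n) F) : Matrix (Fin n) (Fin n) F) (k + 1) := by
  classical
  set M := (g : Matrix (Fin n) (Fin n) F) with hM
  set c : Fin n := ⟨k, hk⟩
  have hne : (Finset.univ.filter fun i => M i c ≠ 0).Nonempty := by
    by_contra he
    rw [Finset.not_nonempty_iff_eq_empty, Finset.filter_eq_empty_iff] at he
    have hdet : M.det = 0 := Matrix.det_eq_zero_of_column_eq_zero c fun i => by
      simpa using he (Finset.mem_univ i)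
    exact (Matrix.GeneralLinearGroup.det g).ne_zero hdet
  set i := (Finset.univ.filter fun i => M i c ≠ 0).max' hne with hi_def
  have hic : M i c ≠ 0 := (Finset.mem_filter.1 (Finset.max'_mem _ hne)).2
  have hmax : ∀ r, i < r → M r c = 0 := fun r hr => by
    by_contra h0
    exact not_le.2 hr (Finset.le_max' _ r (by simp [h0]))
  have hold : ∀ j : Fin n, j.val < k → M i j = 0 := by
    intro j hj
    obtain ⟨ij, -, hcol, hrow⟩ := h j hj
    by_cases e : i = ij
    · exact absurd (hrow c (Fin.ne_of_val_ne (by simp [c]; omega))) (e ▸ hic)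
    · exact hcol i e
  let ℓ : Fin n → F := fun r => if r = i then (M i c)⁻¹ - 1 else -(M r c) / M i c
  let L : Matrix (Fin n) (Fin n) F := fun r s => (1 : Matrix (Fin n) (Fin n) F) r s +
    if s = i then ℓ r else 0
  have hLM : ∀ r s, (L * M) r s = M r s + ℓ r * M i s := by
    intro r s
    rw [Matrix.mul_apply]
    simp [L, add_mul, Finset.sum_add_distrib, Matrix.one_apply]
  obtain ⟨b, hb, hbv⟩ := exists_upper (A := L) (fun r s hrs => by
      simp only [L, Matrix.one_apply_ne hrs.ne', zero_add]
      split_ifs with e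
      · subst e
        simp only [ℓ, if_neg hrs.ne', hmax r hrs, neg_zero, zero_div]
      · rfl) (fun r => by
      simp only [L, Matrix.one_apply_eq]
      split_ifs with e
      · subst e
        simp [ℓ, hic]
      · simp)
  set M1 := L * M with hM1
  have hM1c : ∀ r, M1 r c = if r = i then 1 else 0 := by
    intro r
    rw [hLM]
    by_cases e : r = i
    · subst e; simp only [ℓ, if_true]; field_simp; ring
    · simp only [ℓ, if_neg e]; field_simp; ring
  let m : Fin n → F := fun s => if s = c then 0 else -(M1 i s)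
  let R : Matrix (Fin n) (Fin n) F := fun r s => (1 : Matrix (Fin n) (Fin n) F) r s +
    if r = c then m s else 0
  obtain ⟨b', hb', hbv'⟩ := exists_upper (A := R) (fun r s hrs => by
      simp only [R, Matrix.one_apply_ne hrs.ne', zero_add]
      split_ifs with e
      · subst e
        have h0 : M i s = 0 := hold s (by simpa [c, Fin.lt_def] using hrs)
        simp [m, hrs.ne, hLM, h0]
      · rfl) (fun r => by
      simp only [R, Matrix.one_apply_eq]
      split_ifs with e
      · subst e; simp [m]
      · simp)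
  refine ⟨b, hb, b', hb', ?_⟩
  rw [Matrix.GeneralLinearGroup.coe_mul, Matrix.GeneralLinearGroup.coe_mul, hbv, hbv', ← hM, ← hM1]
  have hM2 : ∀ r s, (M1 * R) r s = M1 r s + M1 r c * m s := by
    intro r s
    rw [Matrix.mul_apply]
    simp [R, mul_add, Finset.sum_add_distrib, Matrix.one_apply]
  intro j hj
  rcases Nat.lt_succ_iff_lt_or_eq.1 hj with hj | hj
  · obtain ⟨ij, h1, hcol, hrow⟩ := h j hj
    have hjc : j ≠ c := Fin.ne_of_val_ne (by simp [c]; omega)
    have hiij : ij ≠ i := fun e => hic (e ▸ hrow c hjc.symm)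
    have hcol1 : ∀ r, M1 r j = M r j := fun r => by rw [hLM, hold j hj, mul_zero, add_zero]
    have hrow1 : ∀ s, M1 ij s = M ij s := fun s => by
      rw [hLM]; simp [ℓ, hiij, hrow c hjc.symm]
    have hmj : m j = 0 := by simp [m, hcol1, hold j hj]
    refine ⟨ij, by rw [hM2, hcol1, h1, hmj, mul_zero, add_zero], fun r hr => ?_, fun s hs => ?_⟩
    · rw [hM2, hcol1, hcol r hr, hmj, mul_zero, add_zero]
    · rw [hM2, hrow1, hrow1, hrow s hs, hrow c hjc.symm, zero_mul, add_zero]
  · have hjc : j = c := Fin.ext hj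
    subst hjc
    refine ⟨i, by simp [hM2, hM1c, m], fun r hr => by simp [hM2, hM1c, m, hr], fun s hs => ?_⟩
    simp [hM2, hM1c, m, hs]

theorem bruhat (g : GL (Fin n) F) :
    ∃ b ∈ Cfsg.upperTriangularGL n F, ∃ b' ∈ Cfsg.upperTriangularGL n F,
      ∃ π : Equiv.Perm (Fin n), g = b * permGL n F π * b' := by
  classical
  have key : ∀ k, k ≤ n → ∃ b ∈ Cfsg.upperTriangularGL n F, ∃ b' ∈ Cfsg.upperTriangularGL n F,
      Piv ((b * g * b' : GL (Fin n) F) : Matrix (Fin n) (Fin n) F) k := by
    intro k
    induction k with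
    | zero => exact fun _ => ⟨1, one_mem _, 1, one_mem _, fun j hj => absurd hj (Nat.not_lt_zero _)⟩
    | succ k ih =>
      intro hk
      obtain ⟨b, hb, b', hb', hP⟩ := ih (by omega)
      obtain ⟨c, hc, c', hc', hP'⟩ := piv_step _ (by omega) hP
      exact ⟨c * b, mul_mem hc hb, b' * c', mul_mem hb' hc', by simpa [mul_assoc] using hP'⟩
  obtain ⟨b, hb, b', hb', hP⟩ := key n le_rfl
  choose f hf1 hfc hfr using fun j : Fin n => hP j j.isLt
  have hinj : Function.Injective f := by
    intro j j' e
    by_contra hne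
    have := hfr j j' (fun h => hne h.symm)
    rw [e, hf1] at this
    exact one_ne_zero this
  let π : Equiv.Perm (Fin n) := Equiv.ofBijective f hinj.bijective_of_finite
  have he : b * g * b' = permGL n F π := by
    refine Units.ext ?_
    ext i j
    rw [permGL_apply]
    show _ = if i = f j then 1 else 0
    split_ifs with e
    · rw [e, hf1]
    · exact hfc j i e
  exact ⟨b⁻¹, inv_mem hb, b'⁻¹, inv_mem hb', π, by rw [← he]; group⟩

end CfsgLib.GLUnipotent
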