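import Mathlib
import Cfsg.Prelude.Def_LinearParabolics

/-!
Block labels of compositions and contingency matrices.
-/

set_option autoImplicit false

namespace CfsgLib.GLUnipotent

variable {n : ℕ}

/-- Partial sums of a composition. -/
def psum (μ : Fin n → ℕ) (j : Fin n) : ℕ := ∑ k ∈ Finset.univ.filter (fun k : Fin n => k ≤ j), μ k

theorem psum_mono (μ : Fin n → ℕ) {j j' : Fin n} (h : j ≤ j') : psum μ j ≤ psum μ j' :=
  Finset.sum_le_sum_of_subset fun k hk => by
    simp only [Finset.mem_filter, Finset.mem_univ, true_and] at hk ⊢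
    exact hk.trans h

theorem compLabel_le_iff (μ : Fin n → ℕ) (i a : Fin n) :
    Cfsg.compLabel μ i ≤ a.val ↔ i.val < psum μ a := by
  classical
  unfold Cfsg.compLabel
  constructor
  · intro h
    by_contra hc
    push Not at hc
    have : Finset.Iic a ⊆ Finset.univ.filter fun j : Fin n =>
        (∑ k ∈ Finset.univ.filter (fun k : Fin n => k ≤ j), μ k) ≤ i.val := by
      intro j hj
      rw [Finset.mem_filter]
      exact ⟨Finset.mem_univ _, (psum_mono μ (Finset.mem_Iic.1 hj)).trans hc⟩
    have := Finset.card_le_card this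
    rw [Fin.card_Iic] at this
    omega
  · intro h
    have : (Finset.univ.filter fun j : Fin n =>
        (∑ k ∈ Finset.univ.filter (fun k : Fin n => k ≤ j), μ k) ≤ i.val) ⊆ Finset.Iio a := by
      intro j hj
      rw [Finset.mem_filter] at hj
      rw [Finset.mem_Iio]
      by_contra hc
      push Not at hc
      have : psum μ j ≤ i.val := hj.2
      exact absurd ((psum_mono μ hc).trans this) (not_le.2 h)
    exact (Finset.card_le_card this).trans (Fin.card_Iio a).le

theorem compLabel_lt {μ : Fin n → ℕ} (hμ : ∑ i, μ i = n) (i : Fin n) : Cfsg.compLabel μ i < n := by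
  have hn : 0 < n := Fin.pos i
  have h : i.val < psum μ ⟨n - 1, by omega⟩ := by
    have : psum μ ⟨n - 1, by omega⟩ = n := by
      rw [psum, Finset.filter_true_of_mem fun k _ => Fin.le_iff_val_le_val.2 (by
        have := k.isLt; simp only; omega)]
      exact hμ
    rw [this]; exact i.isLt
  have := (compLabel_le_iff μ i _).2 h
  simp only at this
  omega

theorem compLabel_mono (μ : Fin n → ℕ) : Monotone (Cfsg.compLabel μ) := by
  intro i j hij
  refine Finset.card_le_card fun k hk => ?_
  rw [Finset.mem_filter] at hk ⊢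
  exact ⟨hk.1, hk.2.trans hij⟩

/-- The label with values in `Fin n`. -/
def lab (μ : Fin n → ℕ) (hμ : ∑ i, μ i = n) (i : Fin n) : Fin n :=
  ⟨Cfsg.compLabel μ i, compLabel_lt hμ i⟩

theorem card_label {μ : Fin n → ℕ} (hμ : ∑ i, μ i = n) (a : Fin n) :
    Fintype.card {i : Fin n // lab μ hμ i = a} = μ a := by
  classical
  rw [Fintype.card_subtype]
  have hle : psum μ a ≤ n :=
    le_of_le_of_eq (Finset.sum_le_sum_of_subset (Finset.filter_subset _ _)) hμ
  have hsub : psum μ a = (∑ k ∈ Finset.univ.filter (fun k : Fin n => k < a), μ k) + μ a := by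
    rw [psum, ← Finset.sum_filter_add_sum_filter_not _ (fun k : Fin n => k < a),
      Finset.filter_filter, Finset.filter_filter]
    congr 1
    · exact Finset.sum_congr (Finset.filter_congr fun k _ => ⟨fun h => h.2, fun h => ⟨h.le, h⟩⟩)
        fun _ _ => rfl
    · rw [Finset.sum_eq_single a]
      · intro b hb hne
        simp only [Finset.mem_filter, Finset.mem_univ, true_and] at hb
        exact absurd (le_antisymm hb.1 (not_lt.1 hb.2)) hne
      · intro h; simp at h
  set S := ∑ k ∈ Finset.univ.filter (fun k : Fin n => k < a), μ k with hS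
  have e : (Finset.univ.filter fun i : Fin n => lab μ hμ i = a)
      = Finset.univ.filter fun i : Fin n => S ≤ i.val ∧ i.val < psum μ a := by
    refine Finset.filter_congr fun i _ => ?_
    rw [Fin.ext_iff, le_antisymm_iff]
    simp only [lab, compLabel_le_iff]
    rw [and_comm]
    refine and_congr_left fun _ => ?_
    rcases Nat.eq_zero_or_pos a.val with h0 | h0
    · have hz : S = 0 := by
        rw [hS, Finset.sum_eq_zero]
        intro k hk
        simp only [Finset.mem_filter, Finset.mem_univ, true_and, Fin.lt_def] at hk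
        omega
      simp [h0, hz]
    · have hp : S = psum μ ⟨a.val - 1, by have := a.isLt; omega⟩ := by
        rw [hS, psum]
        refine Finset.sum_congr (Finset.filter_congr fun k _ => ?_) fun _ _ => rfl
        simp only [Fin.lt_def, Fin.le_iff_val_le_val]
        omega
      have := compLabel_le_iff μ i ⟨a.val - 1, by have := a.isLt; omega⟩
      simp only at this
      rw [hp]
      omega
  rw [e]
  have e2 : (Finset.univ.filter fun i : Fin n => S ≤ i.val ∧ i.val < psum μ a).map Fin.valEmbedding
      = Finset.Ico S (psum μ a) := by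
    ext m
    simp only [Finset.mem_map, Finset.mem_filter, Finset.mem_univ, true_and, Fin.valEmbedding_apply,
      Finset.mem_Ico]
    constructor
    · rintro ⟨i, hi, rfl⟩; exact hi
    · intro hm; exact ⟨⟨m, by omega⟩, hm, rfl⟩
  rw [← Finset.card_map Fin.valEmbedding, e2, Nat.card_Ico]
  omega

/-- Contingency matrices with prescribed margins. -/
abbrev Margins {n : ℕ} (μ ν : Fin n → ℕ) : Type :=
  {M : Fin n → Fin n → ℕ // (∀ a, ∑ b, M a b = μ a) ∧ ∀ b, ∑ a, M a b = ν b}

section
variable {μ ν : Fin n → ℕ} (hμ : ∑ i, μ i = n) (hν : ∑ i, ν i = n)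

/-- The pair of labels of a permutation at a position. -/
def labPair (σ : Equiv.Perm (Fin n)) (j : Fin n) : Fin n × Fin n :=
  (lab μ hμ (σ j), lab ν hν j)

/-- The contingency matrix of a permutation. -/
def cont (σ : Equiv.Perm (Fin n)) (a b : Fin n) : ℕ :=
  (Finset.univ.filter fun j => labPair hμ hν σ j = (a, b)).card

theorem cont_margins (σ : Equiv.Perm (Fin n)) :
    (∀ a, ∑ b, cont hμ hν σ a b = μ a) ∧ ∀ b, ∑ a, cont hμ hν σ a b = ν b := by
  classical
  constructor
  · intro a
    rw [← card_label hμ a, Fintype.card_subtype]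
    calc ∑ b, cont hμ hν σ a b
        = (Finset.univ.filter fun j => lab μ hμ (σ j) = a).card := by
          rw [Finset.card_eq_sum_card_fiberwise (f := lab ν hν) (t := Finset.univ) (by simp)]
          refine Finset.sum_congr rfl fun b _ => congrArg Finset.card ?_
          rw [Finset.filter_filter]
          exact Finset.filter_congr fun j _ => by simp [labPair, Prod.ext_iff]
      _ = _ := by
          rw [← Finset.card_map σ.toEmbedding]
          congr 1
          ext i
          simp
  · intro b
    rw [← card_label hν b, Fintype.card_subtype,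
      Finset.card_eq_sum_card_fiberwise (f := fun j => lab μ hμ (σ j)) (t := Finset.univ) (by simp)]
    refine Finset.sum_congr rfl fun a _ => congrArg Finset.card ?_
    rw [Finset.filter_filter]
    exact Finset.filter_congr fun j _ => by simp [labPair, Prod.ext_iff, and_comm]

theorem exists_cont (M : Margins μ ν) : ∃ σ : Equiv.Perm (Fin n), cont hμ hν σ = M.1 := by
  classical
  let T := Σ ab : Fin n × Fin n, Fin (M.1 ab.1 ab.2)
  have h2 : ∀ b, Fintype.card {x : T // x.1.2 = b} = ν b := by
    intro b
    rw [Fintype.card_subtype]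
    rw [show (Finset.univ.filter fun x : T => x.1.2 = b)
      = (Finset.univ.filter fun ab : Fin n × Fin n => ab.2 = b).sigma fun _ => Finset.univ by
        ext x; simp [Finset.mem_sigma (a := x)]]
    rw [Finset.card_sigma, Finset.sum_filter, Fintype.sum_prod_type]
    simp [M.2.2 b]
  have h1 : ∀ a, Fintype.card {x : T // x.1.1 = a} = μ a := by
    intro a
    rw [Fintype.card_subtype]
    rw [show (Finset.univ.filter fun x : T => x.1.1 = a)
      = (Finset.univ.filter fun ab : Fin n × Fin n => ab.1 = a).sigma fun _ => Finset.univ by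
        ext x; simp [Finset.mem_sigma (a := x)]]
    rw [Finset.card_sigma, Finset.sum_filter, Fintype.sum_prod_type, Finset.sum_comm]
    simp [M.2.1 a]
  let e1 : Fin n ≃ T := Equiv.ofFiberEquiv (f := lab ν hν) (g := fun x : T => x.1.2)
    fun b => Fintype.equivOfCardEq (by rw [card_label hν b, h2 b])
  let e2 : Fin n ≃ T := Equiv.ofFiberEquiv (f := lab μ hμ) (g := fun x : T => x.1.1)
    fun a => Fintype.equivOfCardEq (by rw [card_label hμ a, h1 a])
  refine ⟨e1.trans e2.symm, ?_⟩
  funext a b
  have key : ∀ j, labPair hμ hν (e1.trans e2.symm) j = (e1 j).1 := by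
    intro j
    have q1 : (e1 j).1.2 = lab ν hν j :=
      Equiv.ofFiberEquiv_map (f := lab ν hν) (g := fun x : T => x.1.2) _ j
    have q2 : (e2 (e2.symm (e1 j))).1.1 = lab μ hμ (e2.symm (e1 j)) :=
      Equiv.ofFiberEquiv_map (f := lab μ hμ) (g := fun x : T => x.1.1) _ _
    rw [Equiv.apply_symm_apply] at q2
    exact Prod.ext q2.symm q1.symm
  unfold cont
  simp only [key]
  rw [← Finset.card_map e1.toEmbedding,
    show (Finset.univ.filter fun j => (e1 j).1 = (a, b)).map e1.toEmbedding
      = Finset.univ.filter (fun x : T => x.1 = (a, b)) by ext x; simp]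
  rw [show (Finset.univ.filter fun x : T => x.1 = (a, b))
      = ({(a, b)} : Finset (Fin n × Fin n)).sigma fun _ => Finset.univ by
        ext x; simp [Finset.mem_sigma (a := x)]]
  rw [Finset.card_sigma, Finset.sum_singleton, Finset.card_univ, Fintype.card_fin]

theorem cont_eq_iff {σ σ' : Equiv.Perm (Fin n)} :
    cont hμ hν σ = cont hμ hν σ' ↔
      ∃ p ∈ Cfsg.youngSubgroup μ, ∃ q ∈ Cfsg.youngSubgroup ν, σ' = p * σ * q := by
  classical
  constructor
  · intro h
    let τ : Equiv.Perm (Fin n) := Equiv.ofFiberEquiv (f := labPair hμ hν σ')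
      (g := labPair hμ hν σ) fun c => Fintype.equivOfCardEq (by
        rw [Fintype.card_subtype, Fintype.card_subtype]
        exact (congrFun (congrFun h c.1) c.2).symm)
    have hτ : ∀ j, labPair hμ hν σ (τ j) = labPair hμ hν σ' j := fun j =>
      Equiv.ofFiberEquiv_map _ j
    refine ⟨σ' * (σ * τ)⁻¹, fun i => ?_, τ, fun i => congrArg (Fin.val ∘ Prod.snd) (hτ i), ?_⟩
    · obtain ⟨j, rfl⟩ := (σ * τ).surjective i
      have := congrArg (Fin.val ∘ Prod.fst) (hτ j)
      show Cfsg.compLabel μ (σ' ((σ * τ)⁻¹ ((σ * τ) j))) = _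
      rw [show (σ * τ)⁻¹ ((σ * τ) j) = j from Equiv.symm_apply_apply _ _]
      exact this.symm
    · rw [mul_assoc, mul_assoc, inv_mul_cancel, mul_one]
  · rintro ⟨p, hp, q, hq, rfl⟩
    funext a b
    unfold cont
    rw [← Finset.card_map q⁻¹.toEmbedding]
    congr 1
    ext j
    simp only [Finset.mem_map, Finset.mem_filter, Finset.mem_univ, true_and,
      Equiv.coe_toEmbedding]
    have e : labPair hμ hν (p * σ * q) j = labPair hμ hν σ (q j) :=
      Prod.ext (Fin.ext (hp _)) (Fin.ext (hq j).symm)
    constructor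
    · rintro ⟨i, hi, rfl⟩
      rw [e, show q (q⁻¹ i) = i from q.apply_symm_apply i, hi]
    · intro hj
      exact ⟨q j, by rw [← e, hj], q.symm_apply_apply j⟩

end

end CfsgLib.GLUnipotent
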