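import Mathlib
import Cfsg.Agent.Lib.GLUnipotent.Labels

/-!
The Cauchy determinant and the alternating sum of numbers of contingency matrices.
-/

set_option autoImplicit false

namespace CfsgLib.GLUnipotent

open Matrix

section Poly

variable {R : Type*} [CommRing R]

/-- The Cauchy identity in denominator free form. -/
theorem det_prod_erase [IsDomain R] {n : ℕ} (x y : Fin n → R) (hy : Function.Injective y) :
    (Matrix.of fun a b => ∏ b' ∈ Finset.univ.erase b, (1 - x a * y b')).det
      = (vandermonde x).det * (vandermonde y).det := by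
  classical
  let p : Fin n → Polynomial R := fun b =>
    ∏ b' ∈ Finset.univ.erase b, (1 - Polynomial.C (y b') * Polynomial.X)
  let A : Matrix (Fin n) (Fin n) R := Matrix.of fun k b => (p b).coeff k
  have hdeg : ∀ b, (p b).natDegree < n := by
    intro b
    have hn : 0 < n := Fin.pos b
    refine lt_of_le_of_lt (Polynomial.natDegree_prod_le _ _) ?_
    refine lt_of_le_of_lt (Finset.sum_le_card_nsmul _ _ 1 fun b' _ => ?_) ?_
    · compute_degree
    · simp; omega
  have e1 : Matrix.of (fun a b => ∏ b' ∈ Finset.univ.erase b, (1 - x a * y b'))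
      = vandermonde x * A := by
    ext a b
    rw [Matrix.mul_apply]
    simp only [Matrix.of_apply, vandermonde_apply, A]
    have := Polynomial.eval_eq_sum_range' (hdeg b) (x a)
    rw [Finset.sum_range] at this
    rw [show ∑ k : Fin n, x a ^ (k : ℕ) * (p b).coeff k = ∑ k : Fin n, (p b).coeff k * x a ^ (k : ℕ)
      from Finset.sum_congr rfl fun k _ => mul_comm _ _, ← this]
    simp only [p, Polynomial.eval_prod, Polynomial.eval_sub, Polynomial.eval_one,
      Polynomial.eval_mul, Polynomial.eval_C, Polynomial.eval_X]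
    exact Finset.prod_congr rfl fun b' _ => by rw [mul_comm]
  have e2 : (projVandermonde (fun _ : Fin n => (1 : R)) y) * A
      = diagonal fun c => ∏ b' ∈ Finset.univ.erase c, (y c - y b') := by
    ext c b
    rw [Matrix.mul_apply, diagonal_apply]
    have hcard : (Finset.univ.erase b).card = n - 1 := by simp
    have key : ∀ s : Finset (Fin n),
        ∑ k ∈ Finset.range (s.card + 1),
          y c ^ (s.card - k) * (∏ b' ∈ s, (1 - Polynomial.C (y b') * Polynomial.X)).coeff k
          = ∏ b' ∈ s, (y c - y b') := by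
      intro s
      induction s using Finset.induction_on with
      | empty => simp
      | insert b' s hb' ih =>
        rw [Finset.prod_insert hb', Finset.prod_insert hb', Finset.card_insert_of_notMem hb']
        set q := ∏ b' ∈ s, (1 - Polynomial.C (y b') * Polynomial.X) with hq
        have hqd : q.natDegree ≤ s.card := by
          refine (Polynomial.natDegree_prod_le _ _).trans ?_
          refine (Finset.sum_le_card_nsmul _ _ 1 fun _ _ => ?_).trans (by simp)
          compute_degree
        rw [Finset.sum_range_succ']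
        have h0 : ((1 - Polynomial.C (y b') * Polynomial.X) * q).coeff 0 = q.coeff 0 := by
          simp [Polynomial.mul_coeff_zero]
        have hk : ∀ k, ((1 - Polynomial.C (y b') * Polynomial.X) * q).coeff (k + 1)
            = q.coeff (k + 1) - y b' * q.coeff k := by
          intro k
          rw [sub_mul, one_mul, Polynomial.coeff_sub, mul_assoc, Polynomial.coeff_C_mul,
            Polynomial.coeff_X_mul]
        rw [h0, Finset.sum_congr rfl fun k _ => by rw [hk k, Nat.succ_sub_succ, mul_sub]]
        rw [Finset.sum_sub_distrib, sub_mul, ← ih]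
        rw [show ∑ k ∈ Finset.range (s.card + 1), y c ^ (s.card - k) * (y b' * q.coeff k)
          = y b' * ∑ k ∈ Finset.range (s.card + 1), y c ^ (s.card - k) * q.coeff k by
            rw [Finset.mul_sum]; exact Finset.sum_congr rfl fun k _ => by ring]
        rw [sub_add_eq_add_sub]
        congr 1
        rw [Finset.mul_sum, Finset.sum_range_succ, Polynomial.coeff_eq_zero_of_natDegree_lt (by omega),
          mul_zero, add_zero, Finset.sum_range_succ' _ s.card]
        congr 1
        · refine Finset.sum_congr rfl fun k hk' => ?_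
          rw [Finset.mem_range] at hk'
          rw [show s.card - k = s.card - (k + 1) + 1 by omega, pow_succ]
          ring
        · rw [Nat.sub_zero, Nat.sub_zero, pow_succ]
          ring
    have h := key (Finset.univ.erase b)
    rw [hcard, show n - 1 + 1 = n from Nat.succ_pred_eq_of_pos (Fin.pos b), Finset.sum_range] at h
    rw [Finset.sum_congr rfl fun k _ => show
      projVandermonde (fun _ : Fin n => (1 : R)) y c k * A k b = y c ^ (n - 1 - (k : ℕ)) * (p b).coeff k
      by simp [projVandermonde, rectVandermonde, A, Fin.val_rev, Nat.sub_add_eq, Nat.sub_right_comm],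
      h]
    split_ifs with e
    · rw [e]
    · exact Finset.prod_eq_zero (Finset.mem_erase.2 ⟨e, Finset.mem_univ c⟩) (sub_self _)
  have hV : (projVandermonde (fun _ : Fin n => (1 : R)) y).det
      = ∏ i : Fin n, ∏ j ∈ Finset.Ioi i, (y i - y j) := by
    rw [det_projVandermonde]; simp
  have hdiag : (∏ c : Fin n, ∏ b' ∈ Finset.univ.erase c, (y c - y b'))
      = (∏ i : Fin n, ∏ j ∈ Finset.Ioi i, (y i - y j)) * (vandermonde y).det := by
    rw [det_vandermonde, ← Finset.prod_mul_distrib]
    have h1 : ∀ c : Fin n, Finset.univ.erase c = Finset.Ioi c ∪ Finset.Iio c := fun c => by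
      ext b; simp [lt_or_lt_iff_ne, eq_comm]
    have hd : ∀ c : Fin n, Disjoint (Finset.Ioi c) (Finset.Iio c) := fun c => by
      rw [Finset.disjoint_left]
      intro b hb hb'
      simp only [Finset.mem_Ioi, Finset.mem_Iio] at hb hb'
      exact lt_asymm hb hb'
    simp only [h1, Finset.prod_union (hd _), Finset.prod_mul_distrib]
    congr 1
    refine Finset.prod_comm' fun i j => ?_
    simp
  have hne : (projVandermonde (fun _ : Fin n => (1 : R)) y).det ≠ 0 := by
    rw [hV, Finset.prod_ne_zero_iff]
    intro i _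
    rw [Finset.prod_ne_zero_iff]
    intro j hj
    exact sub_ne_zero.2 fun e => (Finset.mem_Ioi.1 hj).ne (hy e)
  have hA : A.det = (vandermonde y).det := by
    have := congrArg Matrix.det e2
    rw [det_mul, det_diagonal, hdiag, ← hV] at this
    exact mul_left_cancel₀ hne this
  rw [e1, det_mul, hA]

end Poly

section Series

variable {ι : Type*}

open MvPowerSeries in
/-- The geometric series in a monomial. -/
noncomputable def geo (v : ι →₀ ℕ) : MvPowerSeries ι ℤ :=
  fun m => open Classical in if ∃ k : ℕ, k • v = m then 1 else 0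

theorem coeff_geo (v m : ι →₀ ℕ) [Decidable (∃ k : ℕ, k • v = m)] :
    MvPowerSeries.coeff m (geo v) = if ∃ k : ℕ, k • v = m then 1 else 0 := by
  rw [MvPowerSeries.coeff_apply]
  unfold geo
  by_cases h : ∃ k : ℕ, k • v = m <;> simp [h]

theorem geo_mul {v : ι →₀ ℕ} (hv : v ≠ 0) :
    (1 - MvPowerSeries.monomial v 1) * geo v = 1 := by
  classical
  ext m
  rw [sub_mul, one_mul, map_sub, MvPowerSeries.coeff_monomial_mul, one_mul, MvPowerSeries.coeff_one]
  simp only [coeff_geo]
  obtain ⟨i, hi⟩ := Finsupp.ne_iff.1 hv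
  simp only [Finsupp.coe_zero, Pi.zero_apply] at hi
  by_cases hm : m = 0
  · subst hm
    rw [if_pos ⟨0, zero_smul _ _⟩, if_pos rfl, if_neg, sub_zero]
    intro h
    have := h i
    simp at this
    omega
  · rw [if_neg hm]
    by_cases h : ∃ k : ℕ, k • v = m
    · obtain ⟨k, rfl⟩ := h
      rcases k with _ | k
      · simp at hm
      · rw [succ_nsmul, if_pos ⟨k + 1, succ_nsmul _ _⟩, if_pos le_add_self, add_tsub_cancel_right,
          if_pos ⟨k, rfl⟩, sub_self]
    · rw [if_neg h]
      split_ifs with h1 h2
      · obtain ⟨k, hk⟩ := h2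
        exact absurd ⟨k + 1, by rw [succ_nsmul, hk, tsub_add_cancel_of_le h1]⟩ h
      · simp
      · simp

theorem coeff_prod_geo {S : Type*} [Fintype S] (f : S → ι →₀ ℕ) (hf : ∀ s, f s ≠ 0) (m : ι →₀ ℕ) :
    MvPowerSeries.coeff m (∏ s, geo (f s))
      = (Nat.card {k : S → ℕ // ∑ s, k s • f s = m} : ℤ) := by
  classical
  rw [MvPowerSeries.coeff_prod]
  simp only [coeff_geo]
  rw [show (∑ l ∈ Finset.finsuppAntidiag Finset.univ m,
      ∏ s, if ∃ k : ℕ, k • f s = l s then (1 : ℤ) else 0)
      = ((Finset.finsuppAntidiag Finset.univ m).filter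
          fun l => ∀ s, ∃ k : ℕ, k • f s = l s).card by
    rw [Finset.card_filter, Nat.cast_sum]
    refine Finset.sum_congr rfl fun l _ => ?_
    rw [Finset.prod_boole]
    simp]
  congr 1
  rw [← Nat.card_eq_finsetCard]
  refine (Nat.card_congr ?_).symm
  refine Equiv.ofBijective (fun k => ⟨Finsupp.equivFunOnFinite.symm fun s => k.1 s • f s, ?_⟩)
    ⟨fun k k' h => ?_, fun l => ?_⟩
  · rw [Finset.mem_filter, Finset.mem_finsuppAntidiag]
    exact ⟨⟨by simpa using k.2, Finset.subset_univ _⟩, fun s => ⟨k.1 s, by simp⟩⟩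
  · refine Subtype.ext (funext fun s => ?_)
    have := DFunLike.congr_fun (congrArg Subtype.val h) s
    simp only [Finsupp.coe_equivFunOnFinite_symm] at this
    obtain ⟨i, hi⟩ := Finsupp.ne_iff.1 (hf s)
    simp only [Finsupp.coe_zero, Pi.zero_apply] at hi
    have := DFunLike.congr_fun this i
    simp only [Finsupp.smul_apply, smul_eq_mul] at this
    exact Nat.eq_of_mul_eq_mul_right (Nat.pos_of_ne_zero hi) this
  · obtain ⟨l, hl⟩ := l
    rw [Finset.mem_filter, Finset.mem_finsuppAntidiag] at hl
    choose k hk using hl.2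
    refine ⟨⟨k, by rw [← hl.1.1]; exact Finset.sum_congr rfl fun s _ => hk s⟩, Subtype.ext ?_⟩
    ext s : 1
    simp [hk]

variable {n : ℕ}

/-- A pair of exponent vectors. -/
noncomputable def expo (a b : Fin n → ℕ) : Fin n ⊕ Fin n →₀ ℕ :=
  Finsupp.equivFunOnFinite.symm (Sum.elim a b)

/-- The exponent vector of `x_a y_b`. -/
noncomputable def evec (c : Fin n × Fin n) : Fin n ⊕ Fin n →₀ ℕ :=
  Finsupp.single (Sum.inl c.1) 1 + Finsupp.single (Sum.inr c.2) 1

theorem evec_ne_zero (c : Fin n × Fin n) : evec c ≠ 0 := fun h => by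
  simpa [evec] using DFunLike.congr_fun h (Sum.inl c.1)

theorem coeff_phi (a b : Fin n → ℕ) :
    MvPowerSeries.coeff (expo a b) (∏ c : Fin n × Fin n, geo (evec c))
      = (Nat.card (Margins a b) : ℤ) := by
  classical
  rw [coeff_prod_geo evec evec_ne_zero]
  congr 1
  refine Nat.card_congr (Equiv.subtypeEquiv (Equiv.curry _ _ _) fun k => ?_)
  rw [Finsupp.ext_iff, Sum.forall]
  refine and_congr (forall_congr' fun i => ?_) (forall_congr' fun i => ?_) <;>
    simp [expo, evec, Finsupp.single_apply, Fintype.sum_prod_type, Finset.sum_ite_eq',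
      mul_add]

theorem coeff_perm_geo {l l' : Fin n → ℕ} (σ : Equiv.Perm (Fin n)) :
    MvPowerSeries.coeff (expo l l') (∏ b, geo (evec (σ b, b)))
      = if (fun b => l (σ b)) = l' then 1 else 0 := by
  classical
  rw [coeff_prod_geo _ fun b => evec_ne_zero _]
  have hk : ∀ k : Fin n → ℕ, (∑ b, k b • evec (σ b, b) = expo l l') ↔
      (∀ b, k b = l (σ b)) ∧ ∀ b, k b = l' b := by
    intro k
    rw [Finsupp.ext_iff, Sum.forall]
    refine and_congr ?_ (forall_congr' fun i => ?_)
    · refine (σ.forall_congr_right (q := fun a => (∑ b, k b • evec (σ b, b)) (Sum.inl a)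
        = expo l l' (Sum.inl a))).symm.trans (forall_congr' fun i => ?_)
      simp [expo, evec, Finsupp.single_apply]
    · simp [expo, evec, Finsupp.single_apply]
  split_ifs with h
  · rw [Nat.cast_eq_one, Nat.card_eq_one_iff_exists]
    exact ⟨⟨l', (hk l').2 ⟨fun b => (congrFun h b).symm, fun _ => rfl⟩⟩,
      fun k => Subtype.ext (funext ((hk k.1).1 k.2).2)⟩
  · rw [Nat.cast_eq_zero, Nat.card_eq_zero]
    exact Or.inl ⟨fun k => h (funext fun b =>
      (((hk k.1).1 k.2).1 b).symm.trans (((hk k.1).1 k.2).2 b))⟩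

/-- The power series of one variable. -/
noncomputable def var (i : Fin n ⊕ Fin n) : MvPowerSeries (Fin n ⊕ Fin n) ℤ := MvPowerSeries.X i

theorem det_geo :
    (Matrix.of fun a b : Fin n => geo (evec (a, b))).det
      = (vandermonde fun a : Fin n => var (Sum.inl a)).det
        * (vandermonde fun a : Fin n => var (Sum.inr a)).det
        * ∏ c : Fin n × Fin n, geo (evec c) := by
  classical
  have : IsDomain (MvPowerSeries (Fin n ⊕ Fin n) ℤ) := NoZeroDivisors.to_isDomain _
  have hvy : Function.Injective fun a : Fin n => var (n := n) (Sum.inr a) := by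
    intro a b h
    have h1 := congrArg (MvPowerSeries.coeff (Finsupp.single (Sum.inr a) 1)) h
    simp only [var, MvPowerSeries.coeff_X] at h1
    by_contra hne
    simp [Finsupp.single_eq_single_iff, hne] at h1
  rw [← det_prod_erase _ _ hvy]
  have hone : ∀ a b : Fin n, (1 - var (Sum.inl a) * var (Sum.inr b)) * geo (evec (a, b)) = 1 := by
    intro a b
    have : var (n := n) (Sum.inl a) * var (Sum.inr b) = MvPowerSeries.monomial (evec (a, b)) 1 := by
      rw [var, var, MvPowerSeries.X_def, MvPowerSeries.X_def, MvPowerSeries.monomial_mul_monomial,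
        mul_one]
      rfl
    rw [this]
    exact geo_mul (evec_ne_zero _)
  set D : Matrix (Fin n) (Fin n) (MvPowerSeries (Fin n ⊕ Fin n) ℤ) :=
    Matrix.of fun a b => ∏ b' ∈ Finset.univ.erase b, (1 - var (Sum.inl a) * var (Sum.inr b')) with hD
  have e : Matrix.of (fun a b : Fin n => geo (evec (a, b)))
      = Matrix.of fun a b => (∏ b', geo (evec (a, b'))) * D a b := by
    ext a b : 2
    simp only [Matrix.of_apply, hD]
    rw [← Finset.mul_prod_erase Finset.univ (fun b' => geo (evec (a, b'))) (Finset.mem_univ b),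
      mul_assoc, ← Finset.prod_mul_distrib, Finset.prod_eq_one, mul_one]
    intro b' _
    rw [mul_comm, hone]
  rw [e, Matrix.det_mul_column, Fintype.prod_prod_type, mul_comm]

theorem det_vdm_monomial (side : Fin n → Fin n ⊕ Fin n) :
    (vandermonde fun a : Fin n => var (side a)).det
      = ∑ κ : Equiv.Perm (Fin n), MvPowerSeries.monomial (∑ a, (κ a).val • Finsupp.single (side a) 1)
          ((Equiv.Perm.sign κ : ℤ)) := by
  classical
  rw [Matrix.det_apply]
  refine Fintype.sum_equiv (Equiv.inv _) _ _ fun σ => ?_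
  simp only [Equiv.inv_apply, Equiv.Perm.sign_inv]
  have hprod : ∀ s : Finset (Fin n), ∏ a ∈ s, MvPowerSeries.monomial (σ := Fin n ⊕ Fin n) (R := ℤ)
      (((σ⁻¹ a : Fin n) : ℕ) • Finsupp.single (side a) 1) 1
      = MvPowerSeries.monomial (∑ a ∈ s, ((σ⁻¹ a : Fin n) : ℕ) • Finsupp.single (side a) 1) 1 := by
    intro s
    induction s using Finset.induction_on with
    | empty => simp
    | insert a s ha ih =>
      rw [Finset.prod_insert ha, Finset.sum_insert ha, ih, MvPowerSeries.monomial_mul_monomial,
        one_mul]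
  have e : ∏ i, vandermonde (fun a : Fin n => var (side a)) (σ i) i
      = ∏ a, MvPowerSeries.monomial (R := ℤ)
          (((σ⁻¹ a : Fin n) : ℕ) • Finsupp.single (side a) 1) 1 := by
    refine Fintype.prod_equiv σ _ _ fun i => ?_
    rw [vandermonde_apply, var, show σ⁻¹ (σ i) = i from σ.symm_apply_apply i,
      MvPowerSeries.X_pow_eq, Finsupp.smul_single', mul_one]
  rw [e, hprod, Units.smul_def, ← map_zsmul, zsmul_eq_mul, mul_one]
  simp

/-- The alternating sum of contingency numbers. -/
theorem alternating_margins (l l' : Fin n → ℕ) (hl : StrictMono l) (hl' : StrictMono l') :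
    (∑ κ : Equiv.Perm (Fin n), ∑ κ' : Equiv.Perm (Fin n),
      if (∀ i, (κ i).val ≤ l i) ∧ (∀ i, (κ' i).val ≤ l' i) then
        (Equiv.Perm.sign κ : ℤ) * (Equiv.Perm.sign κ' : ℤ) *
          (Nat.card (Margins (fun i => l i - (κ i).val) (fun i => l' i - (κ' i).val)) : ℤ)
      else 0) = if l = l' then 1 else 0 := by
  classical
  have h := congrArg (MvPowerSeries.coeff (expo l l')) (det_geo (n := n))
  rw [det_vdm_monomial, det_vdm_monomial, Finset.sum_mul, Finset.sum_mul, map_sum] at h
  have hL : MvPowerSeries.coeff (expo l l') (Matrix.of fun a b : Fin n => geo (evec (a, b))).det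
      = if l = l' then 1 else 0 := by
    rw [Matrix.det_apply, map_sum]
    have key : ∀ σ : Equiv.Perm (Fin n), (fun b => l (σ b)) = l' → σ = 1 := by
      intro σ hσ
      have hmono : StrictMono σ := fun a b hab => by
        have := hl' hab
        rw [← hσ] at this
        exact hl.lt_iff_lt.1 this
      refine Equiv.ext fun i => ?_
      have := (hmono.range_inj strictMono_id).1 (by rw [Set.range_id, Equiv.range_eq_univ])
      exact congrFun this i
    rw [Finset.sum_eq_single (1 : Equiv.Perm (Fin n))]
    · simp only [Equiv.Perm.sign_one, one_smul, Matrix.of_apply]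
      rw [coeff_perm_geo]
      rfl
    · intro σ _ hσ
      rw [Units.smul_def, map_zsmul]
      simp only [Matrix.of_apply]
      rw [coeff_perm_geo, if_neg fun hc => hσ (key σ hc), smul_zero]
    · simp
  rw [hL] at h
  rw [h]
  refine Finset.sum_congr rfl fun κ _ => ?_
  rw [Finset.mul_sum, Finset.sum_mul, map_sum]
  refine Finset.sum_congr rfl fun κ' _ => ?_
  rw [MvPowerSeries.monomial_mul_monomial, MvPowerSeries.coeff_monomial_mul]
  have hE : (∑ a, (κ a).val • Finsupp.single (Sum.inl a : Fin n ⊕ Fin n) 1)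
      + ∑ a, (κ' a).val • Finsupp.single (Sum.inr a : Fin n ⊕ Fin n) 1
      = expo (fun a => (κ a).val) (fun a => (κ' a).val) := by
    ext (i | i) <;> simp [expo, Finsupp.single_apply]
  rw [hE]
  have hle : expo (fun a => (κ a).val) (fun a => (κ' a).val) ≤ expo l l' ↔
      (∀ i, (κ i).val ≤ l i) ∧ ∀ i, (κ' i).val ≤ l' i := by
    rw [Finsupp.le_def, Sum.forall]
    simp [expo]
  by_cases hc : (∀ i, (κ i).val ≤ l i) ∧ ∀ i, (κ' i).val ≤ l' i
  · rw [if_pos hc, if_pos (hle.2 hc), ← coeff_phi]
    congr 3
    ext (i | i) <;> simp [expo]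
  · rw [if_neg hc, if_neg (fun h => hc (hle.1 h))]

end Series

end CfsgLib.GLUnipotent
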