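/-
Primes in the centralizer of an element of order `p` in `PSL(n, q)`.
-/
import Cfsg.Agent.Lib.Classical.GLOrder

set_option autoImplicit false

namespace CfsgLib.GLUnipotent.CentralizerPrimes

open Matrix Module

variable {F : Type*} [Field F] [Fintype F]

theorem dvd_card_GL_finrank {W : Type*} [AddCommGroup W] [Module F W] [FiniteDimensional F W]
    {r : ℕ} [hr : Fact r.Prime] (T : Module.End F W) (hT : T ^ r = 1) (h1 : T ≠ 1) :
    r ∣ Nat.card (GL (Fin (finrank F W)) F) := by
  let e : Module.End F W ≃ₐ[F] Matrix (Fin (finrank F W)) (Fin (finrank F W)) F :=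
    LinearMap.toMatrixAlgEquiv (Module.finBasis F W)
  let u : GL (Fin (finrank F W)) F :=
    Units.map e.toAlgHom.toRingHom.toMonoidHom (Units.ofPowEqOne T r hT hr.out.ne_zero)
  have hu : orderOf u = r := by
    refine orderOf_eq_prime ?_ ?_
    · rw [← map_pow, show Units.ofPowEqOne T r hT hr.out.ne_zero ^ r = 1 from
        Units.ext (by simp [hT]), map_one]
    · intro h
      exact h1 (e.injective (by simpa [u] using congrArg Units.val h))
  exact hu ▸ orderOf_dvd_natCard u

theorem exists_small {V : Type*} [AddCommGroup V] [Module F V] [FiniteDimensional F V]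
    {r : ℕ} [hr : Fact r.Prime] (hV : 4 ≤ finrank F V) (T L : Module.End F V) (hT : T ^ r = 1)
    (hL : L ≠ 0) (hLL : L * L = 0) (hc : T * L = L * T) (h3 : (T - 1) ^ 3 ≠ 0) :
    ∃ i ≤ finrank F V - 2, r ∣ Nat.card (GL (Fin i) F) := by
  let U := LinearMap.range L
  let K := LinearMap.ker L
  have hUK : U ≤ K := by
    rintro _ ⟨v, rfl⟩
    exact LinearMap.congr_fun hLL v
  have hsum : finrank F U + finrank F K = finrank F V := LinearMap.finrank_range_add_finrank_ker L
  have hUle : finrank F U ≤ finrank F K := Submodule.finrank_mono hUK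
  have hUpos : 1 ≤ finrank F U := by
    rw [Nat.one_le_iff_ne_zero, Ne, Submodule.finrank_eq_zero, LinearMap.range_eq_bot]
    exact hL
  have hcv : ∀ v, T (L v) = L (T v) := fun v => LinearMap.congr_fun hc v
  have hTU : ∀ v ∈ U, T v ∈ U := by
    rintro _ ⟨v, rfl⟩
    exact ⟨T v, (hcv v).symm⟩
  have hTK : ∀ v ∈ K, T v ∈ K := fun v hv => by
    show L (T v) = 0
    rw [← hcv, LinearMap.mem_ker.1 hv, map_zero]
  by_cases hU1 : ∀ v ∈ U, T v = v
  · -- trivial on the range: the middle factor
    let TK : Module.End F K := T.restrict hTK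
    let U' : Submodule F K := U.comap K.subtype
    have hU' : U' ≤ U'.comap TK := fun v hv => hTU _ hv
    let T2 : Module.End F (K ⧸ U') := U'.mapQ U' TK hU'
    have hpow : ∀ (j : ℕ) (v : K), (T2 ^ j) (Submodule.Quotient.mk v) = Submodule.Quotient.mk ((TK ^ j) v) := by
      intro j
      induction j with
      | zero => intro v; rfl
      | succ j ih => intro v; rw [pow_succ', pow_succ', Module.End.mul_apply, ih]; rfl
    have hTKpow : ∀ (j : ℕ) (v : K), ((TK ^ j) v : V) = (T ^ j) (v : V) := by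
      intro j
      induction j with
      | zero => intro v; rfl
      | succ j ih => intro v; rw [pow_succ', pow_succ', Module.End.mul_apply, Module.End.mul_apply, ← ih]; rfl
    have hT2 : T2 ^ r = 1 := by
      refine LinearMap.ext fun x => ?_
      obtain ⟨v, rfl⟩ := Submodule.Quotient.mk_surjective U' x
      rw [hpow, show (TK ^ r) v = v from Subtype.ext (by rw [hTKpow, hT]; rfl)]
      rfl
    refine ⟨_, ?_, dvd_card_GL_finrank T2 hT2 fun h => h3 ?_⟩
    · have e1 := U'.finrank_quotient_add_finrank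
      have e2 : finrank F U' = finrank F U := (Submodule.comapSubtypeEquivOfLe hUK).finrank_eq
      omega
    · refine LinearMap.ext fun v => ?_
      have s1 : (T - 1) v ∈ K := by
        show L (T v - v) = 0
        rw [map_sub, ← hcv, hU1 _ ⟨v, rfl⟩, sub_self]
      have s2 : (T - 1) ((T - 1) v) ∈ U := by
        have := (Submodule.Quotient.eq U').1
          (LinearMap.congr_fun h (Submodule.Quotient.mk ⟨_, s1⟩))
        exact this
      rw [pow_succ', pow_two, Module.End.mul_apply, Module.End.mul_apply]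
      show T _ - _ = (0 : V)
      rw [hU1 _ s2]
      exact sub_self _
  · push Not at hU1
    obtain ⟨v, hv, hne⟩ := hU1
    let TU : Module.End F U := T.restrict hTU
    have hTUpow : ∀ (j : ℕ) (v : U), ((TU ^ j) v : V) = (T ^ j) (v : V) := by
      intro j
      induction j with
      | zero => intro v; rfl
      | succ j ih => intro v; rw [pow_succ', pow_succ', Module.End.mul_apply, Module.End.mul_apply, ← ih]; rfl
    refine ⟨_, ?_, dvd_card_GL_finrank TU
      (LinearMap.ext fun w => Subtype.ext (by rw [hTUpow, hT]; rfl)) fun h => hne ?_⟩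
    · omega
    · exact congrArg Subtype.val (LinearMap.congr_fun h ⟨v, hv⟩)

theorem dvd_card_SL_of_dvd_card_GL {r i m : ℕ} [hr : Fact r.Prime] (hm : 2 ≤ m) (hi : i ≤ m)
    (h : r ∣ Fintype.card F ∨ r ∣ Nat.card (GL (Fin i) F)) :
    r ∣ Nat.card (SpecialLinearGroup (Fin m) F) := by
  set q := Fintype.card F with hq
  have hq2 : 2 ≤ q := Fintype.one_lt_card
  have hmul := CfsgLib.Classical.card_SL_mul (F := F) hq.symm m (by omega)
  have hfac : ∀ j : Fin m, q ^ m - q ^ (j : ℕ) = q ^ (j : ℕ) * (q ^ (m - j) - 1) := fun j => by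
    rw [Nat.mul_sub, mul_one, ← pow_add, Nat.add_sub_cancel' j.2.le]
  have hcases : r ∣ q ∨ ∃ k, 1 ≤ k ∧ k ≤ i ∧ r ∣ q ^ k - 1 := by
    rcases h with h | h
    · exact Or.inl h
    rw [card_GL_field, ← hq, (hr.out.prime.dvd_finset_prod_iff _)] at h
    obtain ⟨j, -, hj⟩ := h
    have : q ^ i - q ^ (j : ℕ) = q ^ (j : ℕ) * (q ^ (i - j) - 1) := by
      rw [Nat.mul_sub, mul_one, ← pow_add, Nat.add_sub_cancel' j.2.le]
    rw [this, hr.out.dvd_mul] at hj
    rcases hj with hj | hj
    · exact Or.inl (hr.out.dvd_of_dvd_pow hj)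
    · exact Or.inr ⟨i - j, by omega, by omega, hj⟩
  by_cases h1 : r ∣ q - 1
  · let j1 : Fin m := ⟨m - 1, by omega⟩
    let j2 : Fin m := ⟨m - 2, by omega⟩
    have hne : j1 ≠ j2 := by simp [j1, j2, Fin.ext_iff]; omega
    have hd : (q - 1) * (q ^ 2 - 1) ∣ ∏ j : Fin m, (q ^ m - q ^ (j : ℕ)) := by
      refine dvd_trans ?_ (Finset.prod_dvd_prod_of_subset {j1, j2} _ _ (Finset.subset_univ _))
      rw [Finset.prod_pair hne, hfac, hfac]
      refine Nat.mul_dvd_mul (Dvd.dvd.mul_left ?_ _) (Dvd.dvd.mul_left ?_ _)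
      · simp [j1, show m - (m - 1) = 1 by omega]
      · simp [j2, show m - (m - 2) = 2 by omega]
    rw [← hmul] at hd
    exact h1.trans ((Nat.sub_one_dvd_pow_sub_one q 2).trans
      (Nat.dvd_of_mul_dvd_mul_left (by omega) hd))
  · have hd : r ∣ ∏ j : Fin m, (q ^ m - q ^ (j : ℕ)) := by
      rcases hcases with hj | ⟨k, hk1, hk2, hk⟩
      · refine dvd_trans ?_ (Finset.dvd_prod_of_mem _ (Finset.mem_univ (⟨1, by omega⟩ : Fin m)))
        rw [hfac]
        exact Dvd.dvd.mul_right (by simpa using hj) _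
      · refine dvd_trans ?_ (Finset.dvd_prod_of_mem _ (Finset.mem_univ (⟨m - k, by omega⟩ : Fin m)))
        rw [hfac]
        refine Dvd.dvd.mul_left ?_ _
        show r ∣ q ^ (m - (m - k)) - 1
        rwa [show m - (m - k) = k by omega]
    rw [← hmul] at hd
    exact (hr.out.dvd_mul.1 hd).resolve_left h1

theorem scalar_of_mem_center {n : ℕ} [NeZero n] {c : SpecialLinearGroup (Fin n) F}
    (hc : c ∈ Subgroup.center (SpecialLinearGroup (Fin n) F)) :
    ∃ z : F, z ^ n = 1 ∧ (c : Matrix (Fin n) (Fin n) F) = z • 1 := by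
  obtain ⟨z, hz, hz'⟩ := Matrix.SpecialLinearGroup.mem_center_iff.1 hc
  refine ⟨z, by simpa using hz, ?_⟩
  rw [← hz', Matrix.smul_one_eq_diagonal]
  rfl

theorem prime_dvd_card (p : ℕ) [hp : Fact p.Prime] [CharP F p] {n : ℕ} (hn : 4 ≤ n)
    (a b : ProjectiveSpecialLinearGroup (Fin n) F) (ha : orderOf a = p) (hab : Commute a b)
    {r : ℕ} [hr : Fact r.Prime] (hrb : r ∣ orderOf b) :
    r ∣ Nat.card (SpecialLinearGroup (Fin (n - 2)) F) := by
  have : NeZero n := ⟨by omega⟩
  by_cases hrp : r = p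
  · subst hrp
    obtain ⟨k, -, hk⟩ := FiniteField.card F r
    exact dvd_card_SL_of_dvd_card_GL (i := 0) (by omega) (by omega)
      (Or.inl (hk ▸ dvd_pow_self r k.2.ne'))
  obtain ⟨A, rfl⟩ := QuotientGroup.mk_surjective a
  obtain ⟨B, rfl⟩ := QuotientGroup.mk_surjective b
  obtain ⟨z, -, hzA⟩ := scalar_of_mem_center (c := A ^ p) (by
    rw [← QuotientGroup.eq_one_iff, QuotientGroup.mk_pow, ← ha, pow_orderOf_eq_one])
  obtain ⟨w, hw⟩ := (bijective_frobenius F p).2 z
  rw [frobenius_def] at hw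
  have hdet : ((A : Matrix (Fin n) (Fin n) F)).det = 1 := A.2
  have hA0 : (A : Matrix (Fin n) (Fin n) F) ≠ 0 := fun h => by
    rw [h, Matrix.det_zero] at hdet; exact zero_ne_one hdet
  have hw0 : w ≠ 0 := by
    rintro rfl
    rw [zero_pow hp.out.ne_zero] at hw
    have := congrArg Matrix.det hzA
    rw [← hw, zero_smul, Matrix.det_zero] at this
    exact one_ne_zero ((A ^ p).2.symm.trans this)
  -- the commutator is trivial
  obtain ⟨c, -, hc⟩ := scalar_of_mem_center (c := B * A * B⁻¹ * A⁻¹) (by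
    rw [← QuotientGroup.eq_one_iff]
    simp only [QuotientGroup.mk_mul, QuotientGroup.mk_inv]
    rw [← hab.eq]; group)
  have hBA : (B * A * B⁻¹ : SpecialLinearGroup (Fin n) F).1 = c • (A : Matrix (Fin n) (Fin n) F) := by
    have := congrArg (fun M => M * (A : Matrix (Fin n) (Fin n) F)) hc
    simp only [← Matrix.SpecialLinearGroup.coe_mul, inv_mul_cancel_right, smul_mul_assoc, one_mul] at this
    exact this
  have hc1 : c = 1 := by
    have h1 : ((B * A * B⁻¹) ^ p : SpecialLinearGroup (Fin n) F) = B * A ^ p * B⁻¹ := conj_pow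
    have h2 : B * A ^ p * B⁻¹ = A ^ p := by
      have : A ^ p ∈ Subgroup.center (SpecialLinearGroup (Fin n) F) := by
        rw [← QuotientGroup.eq_one_iff, QuotientGroup.mk_pow, ← ha, pow_orderOf_eq_one]
      rw [Subgroup.mem_center_iff.1 this B, mul_inv_cancel_right]
    have h3 : (c ^ p * z) • (1 : Matrix (Fin n) (Fin n) F) = z • 1 := by
      rw [← hzA]
      conv_rhs => rw [← h2, ← h1, Matrix.SpecialLinearGroup.coe_pow, hBA, smul_pow,
        ← Matrix.SpecialLinearGroup.coe_pow, hzA, smul_smul]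
    have h4 : c ^ p * z = z := by simpa using congrFun (congrFun h3 0) 0
    have hz0 : z ≠ 0 := hw ▸ pow_ne_zero _ hw0
    exact (bijective_frobenius F p).1 (by
      rw [frobenius_def, frobenius_def, one_pow]; exact (mul_eq_right₀ hz0).1 h4)
  have hcomm : (B : Matrix (Fin n) (Fin n) F) * A = A * B := by
    have := congrArg (fun M => M * (B : Matrix (Fin n) (Fin n) F)) hBA
    simp only [hc1, one_smul, ← Matrix.SpecialLinearGroup.coe_mul, inv_mul_cancel_right] at this
    rw [← Matrix.SpecialLinearGroup.coe_mul, ← Matrix.SpecialLinearGroup.coe_mul]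
    exact this
  let M : Matrix (Fin n) (Fin n) F := w⁻¹ • (A : Matrix (Fin n) (Fin n) F)
  let N := M - 1
  have hNp : N ^ p = 0 := by
    rw [sub_pow_char_of_commute p (Commute.one_right M), one_pow, smul_pow,
      ← Matrix.SpecialLinearGroup.coe_pow, hzA, smul_smul, ← hw, ← mul_pow, inv_mul_cancel₀ hw0, one_pow,
      one_smul, sub_self]
  have hN0 : N ≠ 0 := by
    intro h
    have hAs : (A : Matrix (Fin n) (Fin n) F) = w • 1 := by
      rw [← sub_eq_zero.1 h, smul_smul, mul_inv_cancel₀ hw0, one_smul]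
    have : A ∈ Subgroup.center (SpecialLinearGroup (Fin n) F) := Subgroup.mem_center_iff.2 fun g =>
      Subtype.ext (by simp [hAs])
    rw [← QuotientGroup.eq_one_iff] at this
    rw [this, orderOf_one] at ha
    exact hp.out.ne_one ha.symm
  -- the last nonzero power
  classical
  have hex : ∃ m, N ^ m = 0 := ⟨p, hNp⟩
  obtain ⟨s, hs⟩ : ∃ s, Nat.find hex = s + 2 := by
    refine ⟨Nat.find hex - 2, ?_⟩
    have h0 : Nat.find hex ≠ 0 := fun h => by
      have := Nat.find_spec hex
      rw [h, pow_zero] at this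
      exact one_ne_zero this
    have h1 : Nat.find hex ≠ 1 := fun h => hN0 (by simpa [h] using Nat.find_spec hex)
    omega
  let L0 := N ^ (s + 1)
  have hL0 : L0 ≠ 0 := Nat.find_min hex (by omega)
  have hLL : L0 * L0 = 0 := by
    rw [← pow_add]
    exact pow_eq_zero_of_le (by omega) (hs ▸ Nat.find_spec hex)
  -- the element of order r
  have hrB : r ∣ orderOf B := hrb.trans (orderOf_map_dvd (QuotientGroup.mk' _) B)
  let B' := B ^ (orderOf B / r)
  have hB' : orderOf B' = r := orderOf_pow_orderOf_div (orderOf_pos B).ne' hrB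
  have hcN : (B' : Matrix (Fin n) (Fin n) F) * L0 = L0 * B' := by
    rw [Matrix.SpecialLinearGroup.coe_pow]
    exact ((((show Commute (B : Matrix (Fin n) (Fin n) F) A from hcomm).smul_right w⁻¹).sub_right
      (Commute.one_right _)).pow_pow _ _).eq
  let φ : Matrix (Fin n) (Fin n) F ≃ₐ[F] Module.End F (Fin n → F) := Matrix.toLinAlgEquiv'
  have hB'r : (B' : Matrix (Fin n) (Fin n) F) ^ r = 1 := by
    rw [← Matrix.SpecialLinearGroup.coe_pow, ← hB', pow_orderOf_eq_one]; rfl
  obtain ⟨i, hi, hid⟩ := exists_small (r := r) (V := Fin n → F) (by simpa using hn)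
    (φ B') (φ L0) (by rw [← map_pow, hB'r, map_one]) (fun h => hL0 (φ.injective (h.trans (map_zero φ).symm)))
    (by rw [← map_mul, hLL, map_zero]) (by rw [← map_mul, hcN, map_mul]) (fun h => by
      rw [← map_one φ, ← map_sub, ← map_pow] at h
      have h' : ((B' : Matrix (Fin n) (Fin n) F) - 1) ^ 3 = 0 := φ.injective (h.trans (map_zero φ).symm)
      have h2 : ((B' : Matrix (Fin n) (Fin n) F) - 1) ^ (p ^ 2) = 0 :=
        pow_eq_zero_of_le (by nlinarith [hp.out.two_le]) h'
      rw [sub_pow_char_pow_of_commute p _ (Commute.one_right _), one_pow, sub_eq_zero,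
        ← Matrix.SpecialLinearGroup.coe_pow] at h2
      have h4 : orderOf B' ∣ p ^ 2 := orderOf_dvd_of_pow_eq_one (Subtype.ext h2)
      rw [hB'] at h4
      exact hrp ((Nat.prime_dvd_prime_iff_eq hr.out hp.out).1 (hr.out.dvd_of_dvd_pow h4)))
  exact dvd_card_SL_of_dvd_card_GL (by omega) (by simpa using hi) (Or.inr hid)

end CfsgLib.GLUnipotent.CentralizerPrimes
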