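import Mathlib
import Cfsg.Agent.Lib.GLUnipotent.Labels
import Cfsg.Agent.Lib.GLUnipotent.Bruhat

/-!
Orbits on pairs of partial flags are counted by contingency matrices.
-/

set_option autoImplicit false

namespace CfsgLib.GLUnipotent

open Matrix

/-- Orbits of a group on a product of two coset spaces are double cosets. -/
theorem card_orbits_prod {G : Type*} [Group G] (P Q : Subgroup G) {M : Type*} (rep : M → G)
    (hsurj : ∀ g, ∃ m, ∃ p ∈ P, ∃ q ∈ Q, g = p * rep m * q)
    (hinj : ∀ m m', (∃ p ∈ P, ∃ q ∈ Q, rep m' = p * rep m * q) → m = m') :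
    Nat.card (Quotient (MulAction.orbitRel G ((G ⧸ P) × (G ⧸ Q)))) = Nat.card M := by
  symm
  refine Nat.card_congr (Equiv.ofBijective
    (fun m => Quotient.mk _ ((((1 : G) : G ⧸ P)), ((rep m : G) : G ⧸ Q))) ⟨fun m m' h => ?_, fun z => ?_⟩)
  · obtain ⟨g, hg⟩ := MulAction.orbitRel_apply.1 (Quotient.exact h.symm)
    simp only [Prod.smul_mk, Prod.mk.injEq, MulAction.Quotient.smul_coe, smul_eq_mul, mul_one,
      QuotientGroup.eq] at hg
    obtain ⟨h1, h2⟩ := hg
    refine hinj m m' ⟨g, by simpa using P.inv_mem h1, _, h2, ?_⟩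
    group
  · obtain ⟨⟨a, b⟩, rfl⟩ := Quotient.mk_surjective z
    obtain ⟨x, rfl⟩ := QuotientGroup.mk_surjective a
    obtain ⟨y, rfl⟩ := QuotientGroup.mk_surjective b
    obtain ⟨m, p, hp, q, hq, e⟩ := hsurj (x⁻¹ * y)
    refine ⟨m, Quotient.sound (MulAction.orbitRel_apply.2 ⟨(x * p)⁻¹, ?_⟩)⟩
    simp only [Prod.smul_mk, Prod.mk.injEq, MulAction.Quotient.smul_coe, smul_eq_mul,
      QuotientGroup.eq]
    refine ⟨?_, ?_⟩
    · rw [show ((x * p)⁻¹ * x)⁻¹ * 1 = p by group]; exact hp
    · rw [show ((x * p)⁻¹ * y)⁻¹ * rep m = q⁻¹ by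
        rw [show y = x * (x⁻¹ * y) by group, e]; group]
      exact inv_mem hq

variable {n : ℕ} {F : Type*} [Field F] {μ ν : Fin n → ℕ}

theorem upper_le_parabolic (μ : Fin n → ℕ) :
    Cfsg.upperTriangularGL n F ≤ Cfsg.parabolicGL n F μ :=
  fun _ hg _ _ hlt => hg ((compLabel_mono μ).reflect_lt hlt)

theorem permGL_mem_parabolic {π : Equiv.Perm (Fin n)} (hπ : π ∈ Cfsg.youngSubgroup μ) :
    permGL n F π ∈ Cfsg.parabolicGL n F μ := by
  intro i j hlt
  rw [permGL_apply, if_neg]
  rintro rfl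
  rw [hπ j] at hlt
  exact lt_irrefl _ hlt

/-- Diagonal projection. -/
def proj (F : Type*) [Field F] (S : Fin n → Prop) [DecidablePred S] : Matrix (Fin n) (Fin n) F :=
  diagonal fun i => if S i then 1 else 0

theorem corner_rank_le {S T : Fin n → Prop} [DecidablePred S] [DecidablePred T]
    {A A' X : Matrix (Fin n) (Fin n) F}
    (hA : ∀ i k, S i → ¬ S k → A i k = 0) (hA' : ∀ k j, ¬ T k → T j → A' k j = 0) :
    (proj F S * (A * X * A') * proj F T).rank ≤ (proj F S * X * proj F T).rank := by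
  have e1 : proj F S * A = proj F S * A * proj F S := by
    ext i k
    simp only [proj, diagonal_mul, mul_diagonal]
    by_cases hi : S i <;> by_cases hk : S k <;> simp [hi, hk]
    exact hA i k hi hk
  have e2 : A' * proj F T = proj F T * A' * proj F T := by
    ext k j
    simp only [proj, diagonal_mul, mul_diagonal]
    by_cases hk : T k <;> by_cases hj : T j <;> simp [hk, hj]
    exact hA' k j hk hj
  have e : proj F S * (A * X * A') * proj F T
      = proj F S * A * (proj F S * X * proj F T) * (A' * proj F T) := by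
    calc proj F S * (A * X * A') * proj F T
        = (proj F S * A) * X * (A' * proj F T) := by simp only [Matrix.mul_assoc]
      _ = (proj F S * A * proj F S) * X * (proj F T * A' * proj F T) := by rw [← e1, ← e2]
      _ = _ := by simp only [Matrix.mul_assoc]
  rw [e]
  exact (rank_mul_le_left _ _).trans (rank_mul_le_right _ _)

theorem corner_rank_invariant (a b : ℕ) {g p q : GL (Fin n) F}
    (hp : p ∈ Cfsg.parabolicGL n F μ) (hq : q ∈ Cfsg.parabolicGL n F ν) :
    (proj F (fun i => a ≤ Cfsg.compLabel μ i)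
        * ((p * g * q : GL (Fin n) F) : Matrix (Fin n) (Fin n) F)
        * proj F (fun j => Cfsg.compLabel ν j < b)).rank
      = (proj F (fun i => a ≤ Cfsg.compLabel μ i) * (g : Matrix (Fin n) (Fin n) F)
        * proj F (fun j => Cfsg.compLabel ν j < b)).rank := by
  have h1 : ∀ p' : GL (Fin n) F, p' ∈ Cfsg.parabolicGL n F μ → ∀ i k, a ≤ Cfsg.compLabel μ i →
      ¬ a ≤ Cfsg.compLabel μ k → (p' : Matrix (Fin n) (Fin n) F) i k = 0 :=
    fun p' hp' i k hi hk => hp' (by omega)
  have h2 : ∀ q' : GL (Fin n) F, q' ∈ Cfsg.parabolicGL n F ν → ∀ k j, ¬ Cfsg.compLabel ν k < b →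
      Cfsg.compLabel ν j < b → (q' : Matrix (Fin n) (Fin n) F) k j = 0 :=
    fun q' hq' k j hk hj => hq' (by omega)
  refine le_antisymm ?_ ?_
  · rw [GeneralLinearGroup.coe_mul, GeneralLinearGroup.coe_mul]
    exact corner_rank_le (h1 p hp) (h2 q hq)
  · conv_lhs => rw [show g = p⁻¹ * (p * g * q) * q⁻¹ by group, GeneralLinearGroup.coe_mul,
      GeneralLinearGroup.coe_mul]
    exact corner_rank_le (h1 _ (inv_mem hp)) (h2 _ (inv_mem hq))

theorem corner_rank_perm (a b : ℕ) (π : Equiv.Perm (Fin n)) :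
    (proj F (fun i => a ≤ Cfsg.compLabel μ i) * (permGL n F π : GL (Fin n) F).val
        * proj F (fun j => Cfsg.compLabel ν j < b)).rank
      = (Finset.univ.filter fun j : Fin n =>
          a ≤ Cfsg.compLabel μ (π j) ∧ Cfsg.compLabel ν j < b).card := by
  classical
  have e : proj F (fun i => a ≤ Cfsg.compLabel μ i) * (permGL n F π : GL (Fin n) F).val
      * proj F (fun j => Cfsg.compLabel ν j < b)
      = (permGL n F π : GL (Fin n) F).val
        * diagonal (fun j => if a ≤ Cfsg.compLabel μ (π j) ∧ Cfsg.compLabel ν j < b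
            then (1 : F) else 0) := by
    ext i j
    simp only [proj, diagonal_mul, mul_diagonal, permGL_val, pmat]
    by_cases e : i = π j
    · subst e
      by_cases h1 : a ≤ Cfsg.compLabel μ (π j) <;> by_cases h2 : Cfsg.compLabel ν j < b <;>
        simp [h1, h2]
    · simp [e]
  rw [e, rank_mul_eq_right_of_isUnit_det _ _
    ((Matrix.isUnit_iff_isUnit_det _).1 (permGL n F π).isUnit), rank_diagonal,
    Fintype.card_subtype]
  congr 1
  exact Finset.filter_congr fun j _ => by split_ifs with h <;> simp [h]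

theorem cont_eq_of_double_coset (hμ : ∑ i, μ i = n) (hν : ∑ i, ν i = n)
    {σ σ' : Equiv.Perm (Fin n)}
    (h : ∃ p ∈ Cfsg.parabolicGL n F μ, ∃ q ∈ Cfsg.parabolicGL n F ν,
      permGL n F σ' = p * permGL n F σ * q) :
    cont hμ hν σ = cont hμ hν σ' := by
  classical
  obtain ⟨p, hp, q, hq, e⟩ := h
  let C : Equiv.Perm (Fin n) → ℕ → ℕ → ℕ := fun π a b => (Finset.univ.filter fun j : Fin n =>
    a ≤ Cfsg.compLabel μ (π j) ∧ Cfsg.compLabel ν j < b).card
  have hC : ∀ a b, C σ' a b = C σ a b := fun a b => by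
    simp only [C, ← corner_rank_perm (F := F)]
    rw [e]
    exact corner_rank_invariant a b hp hq
  have key : ∀ π (x y : Fin n), cont hμ hν π x y + C π (x + 1) (y + 1) + C π x y
      = C π x (y + 1) + C π (x + 1) y := by
    intro π x y
    simp only [cont, labPair, lab, C, Prod.ext_iff, Fin.ext_iff, Finset.card_filter]
    rw [← Finset.sum_add_distrib, ← Finset.sum_add_distrib, ← Finset.sum_add_distrib]
    refine Finset.sum_congr rfl fun j _ => ?_
    split_ifs <;> omega
  funext x y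
  have h1 := key σ x y
  have h2 := key σ' x y
  simp only [hC] at h2
  omega

variable (F) in
theorem card_orbits_gl (hμ : ∑ i, μ i = n) (hν : ∑ i, ν i = n) :
    Nat.card (Quotient (MulAction.orbitRel (GL (Fin n) F)
      ((GL (Fin n) F ⧸ Cfsg.parabolicGL n F μ) × (GL (Fin n) F ⧸ Cfsg.parabolicGL n F ν))))
      = Nat.card (Margins μ ν) := by
  choose σ hσ using exists_cont hμ hν
  refine card_orbits_prod _ _ (fun M => permGL n F (σ M)) ?_ ?_
  · intro g
    obtain ⟨b, hb, b', hb', π, rfl⟩ := bruhat g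
    obtain ⟨M, hM⟩ : ∃ M : Margins μ ν, M.1 = cont hμ hν π := ⟨⟨_, cont_margins hμ hν π⟩, rfl⟩
    obtain ⟨p, hp, q, hq, e⟩ := (cont_eq_iff hμ hν).1 ((hσ M).trans hM)
    refine ⟨M, b * permGL n F p, mul_mem (upper_le_parabolic μ hb) (permGL_mem_parabolic hp),
      permGL n F q * b', mul_mem (permGL_mem_parabolic hq) (upper_le_parabolic ν hb'), ?_⟩
    rw [e, map_mul, map_mul]
    group
  · intro M M' h
    exact Subtype.ext (by rw [← hσ M, ← hσ M']; exact cont_eq_of_double_coset hμ hν h)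

theorem card_orbits_sym (hμ : ∑ i, μ i = n) (hν : ∑ i, ν i = n) :
    Nat.card (Quotient (MulAction.orbitRel (Equiv.Perm (Fin n))
      ((Equiv.Perm (Fin n) ⧸ Cfsg.youngSubgroup μ) × (Equiv.Perm (Fin n) ⧸ Cfsg.youngSubgroup ν))))
      = Nat.card (Margins μ ν) := by
  choose σ hσ using exists_cont hμ hν
  refine card_orbits_prod _ _ σ ?_ ?_
  · intro π
    obtain ⟨M, hM⟩ : ∃ M : Margins μ ν, M.1 = cont hμ hν π := ⟨⟨_, cont_margins hμ hν π⟩, rfl⟩
    exact ⟨M, (cont_eq_iff hμ hν).1 ((hσ M).trans hM)⟩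
  · intro M M' h
    exact Subtype.ext (by rw [← hσ M, ← hσ M']; exact (cont_eq_iff hμ hν).2 h)

end CfsgLib.GLUnipotent
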