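import Mathlib
import Cfsg.Agent.Lib.GLUnipotent.Labels
import Cfsg.Agent.Lib.GLUnipotent.DoubleCoset

/-!
The number of partial flags and the degree formula.
-/

set_option autoImplicit false

namespace CfsgLib.GLUnipotent

open Matrix

/-- The q-integer. -/
def qInt (q r : ℕ) : ℕ := ∑ l ∈ Finset.range r, q ^ l

/-- The q-factorial. -/
def qFact (q r : ℕ) : ℕ := ∏ j ∈ Finset.range r, qInt q (j + 1)

theorem qInt_pos (q r : ℕ) : 0 < qInt q (r + 1) :=
  Finset.sum_pos' (fun _ _ => Nat.zero_le _) ⟨0, by simp, by simp⟩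

theorem qFact_pos (q r : ℕ) : 0 < qFact q r := Finset.prod_pos fun j _ => qInt_pos q j

theorem qFact_succ (q r : ℕ) : qFact q (r + 1) = qFact q r * qInt q (r + 1) :=
  Finset.prod_range_succ _ _

theorem qInt_mul {q : ℕ} (hq : 1 ≤ q) (r : ℕ) : (q - 1) * qInt q r + 1 = q ^ r := by
  induction r with
  | zero => simp [qInt]
  | succ r ih =>
    rw [qInt, Finset.sum_range_succ, ← qInt, Nat.mul_add, add_right_comm, ih, pow_succ]
    obtain ⟨k, rfl⟩ := Nat.exists_eq_add_of_le hq
    simp only [Nat.add_sub_cancel_left]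
    ring

variable {F : Type*} [Field F] [Fintype F]

theorem gl_order (q r : ℕ) (hq : 1 ≤ q) :
    ∏ i : Fin r, (q ^ r - q ^ (i : ℕ)) = q ^ r.choose 2 * ((q - 1) ^ r * qFact q r) := by
  have h : ∀ i : Fin r, q ^ r - q ^ (i : ℕ) = q ^ (i : ℕ) * ((q - 1) * qInt q (r - i)) := by
    intro i
    have h1 := qInt_mul hq (r - i)
    have hpos : (q - 1) * qInt q (r - i) = q ^ (r - (i : ℕ)) - 1 := by omega
    rw [hpos, Nat.mul_sub, mul_one, ← pow_add, Nat.add_sub_of_le i.isLt.le]
  rw [Finset.prod_congr rfl fun i _ => h i, Finset.prod_mul_distrib, Finset.prod_mul_distrib,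
    Finset.prod_const, Finset.card_univ, Fintype.card_fin, Finset.prod_pow_eq_pow_sum]
  congr 1
  · rw [Fin.sum_univ_eq_sum_range (fun i => i) r, Finset.sum_range_id, Nat.choose_two_right]
  · congr 1
    rw [qFact, Fin.prod_univ_eq_prod_range (fun i => qInt q (r - i)) r, ← Finset.prod_range_reflect]
    refine Finset.prod_congr rfl fun j hj => ?_
    rw [Finset.mem_range] at hj
    congr 1; omega

variable {n : ℕ}

theorem card_invertible (ι : Type*) [Fintype ι] [DecidableEq ι] :
    Nat.card {A : Matrix ι ι F // A.det ≠ 0}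
      = Fintype.card F ^ (Fintype.card ι).choose 2 *
        ((Fintype.card F - 1) ^ Fintype.card ι * qFact (Fintype.card F) (Fintype.card ι)) := by
  rw [← gl_order _ _ Fintype.card_pos, ← Matrix.card_GL_field]
  refine Nat.card_congr ?_
  let e := Matrix.reindexAlgEquiv F F (Fintype.equivFin ι)
  exact
    { toFun := fun A => GeneralLinearGroup.mkOfDetNeZero (e A.1) (by
        rw [Matrix.det_reindexAlgEquiv]; exact A.2)
      invFun := fun g => ⟨e.symm g.val, by
        rw [← Matrix.det_reindexAlgEquiv F F (Fintype.equivFin ι), AlgEquiv.apply_symm_apply]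
        exact (GeneralLinearGroup.det g).ne_zero⟩
      left_inv := fun A => Subtype.ext (e.symm_apply_apply A.1)
      right_inv := fun g => Units.ext (e.apply_symm_apply g.val) }

theorem card_parabolic {μ : Fin n → ℕ} (hμ : ∑ i, μ i = n) :
    Nat.card (Cfsg.parabolicGL n F μ)
      = Fintype.card F ^ n.choose 2 * ((Fintype.card F - 1) ^ n * ∏ a, qFact (Fintype.card F) (μ a)) := by
  classical
  let q := Fintype.card F
  let b := lab μ hμ
  let U := {p : Fin n × Fin n // b p.1 < b p.2}
  have hdet : ∀ M : Matrix (Fin n) (Fin n) F, M.BlockTriangular b →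
      M.det = ∏ a, (M.toSquareBlock b a).det := fun M h => h.det_fintype
  have hiff : ∀ M : Matrix (Fin n) (Fin n) F,
      M.BlockTriangular (Cfsg.compLabel μ) ↔ M.BlockTriangular b := fun M => Iff.rfl
  let E : {M : Matrix (Fin n) (Fin n) F // M.BlockTriangular b ∧ M.det ≠ 0} ≃
      (∀ a, {A : Matrix {i // b i = a} {i // b i = a} F // A.det ≠ 0}) × (U → F) :=
    { toFun := fun M => (fun a => ⟨M.1.toSquareBlock b a, by
          have := M.2.2
          rw [hdet _ M.2.1, Finset.prod_ne_zero_iff] at this
          exact this a (Finset.mem_univ a)⟩, fun u => M.1 u.1.1 u.1.2)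
      invFun := fun x => ⟨Matrix.of fun i j =>
          if h : b i = b j then (x.1 (b j)).1 ⟨i, h⟩ ⟨j, rfl⟩
          else if h' : b i < b j then x.2 ⟨(i, j), h'⟩ else 0, by
        refine ⟨fun i j h => ?_, ?_⟩
        · simp [dif_neg h.ne', dif_neg (not_lt.2 h.le)]
        · rw [hdet _ fun i j h => by simp [dif_neg h.ne', dif_neg (not_lt.2 h.le)],
            Finset.prod_ne_zero_iff]
          intro a _
          convert (x.1 a).2 using 2
          ext ⟨i, hi⟩ ⟨j, hj⟩
          subst hj
          simp [Matrix.toSquareBlock_def, dif_pos hi]⟩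
      left_inv := fun M => by
        refine Subtype.ext ?_
        ext i j
        simp only [Matrix.of_apply]
        split_ifs with h h'
        · rfl
        · rfl
        · exact (M.2.1 (lt_of_le_of_ne (not_lt.1 h') (Ne.symm h))).symm
      right_inv := fun x => by
        refine Prod.ext (funext fun a => Subtype.ext ?_) (funext fun u => ?_)
        · ext ⟨i, hi⟩ ⟨j, hj⟩
          subst hj
          simp [Matrix.toSquareBlock_def, dif_pos hi]
        · obtain ⟨⟨i, j⟩, hu⟩ := u
          simp [dif_neg (ne_of_lt hu), dif_pos hu] }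
  have hP : Nat.card (Cfsg.parabolicGL n F μ)
      = Nat.card {M : Matrix (Fin n) (Fin n) F // M.BlockTriangular b ∧ M.det ≠ 0} := by
    refine Nat.card_congr
      { toFun := fun g => ⟨(g.1 : Matrix (Fin n) (Fin n) F), (hiff _).1 g.2,
          (GeneralLinearGroup.det g.1).ne_zero⟩
        invFun := fun M => ⟨GeneralLinearGroup.mkOfDetNeZero M.1 M.2.2, (hiff _).2 M.2.1⟩
        left_inv := fun g => Subtype.ext (Units.ext rfl)
        right_inv := fun M => Subtype.ext rfl }
  rw [hP, Nat.card_congr E, Nat.card_prod, Nat.card_pi, Nat.card_fun]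
  have hblock : ∀ a, Nat.card {A : Matrix {i // b i = a} {i // b i = a} F // A.det ≠ 0}
      = q ^ (μ a).choose 2 * ((q - 1) ^ μ a * qFact q (μ a)) := fun a => by
    rw [card_invertible, card_label hμ a]
  simp only [hblock, Nat.card_eq_fintype_card]
  rw [Finset.prod_mul_distrib, Finset.prod_mul_distrib, Finset.prod_pow_eq_pow_sum,
    Finset.prod_pow_eq_pow_sum, hμ]
  have hU : ∑ a, (μ a).choose 2 + Fintype.card U = n.choose 2 := by
    have h1 : ∀ m : ℕ, 2 * m.choose 2 + m = m * m := by
      intro m
      rw [Nat.choose_two_right]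
      rcases Nat.even_or_odd' m with ⟨k, rfl | rfl⟩
      · rw [show 2 * k * (2 * k - 1) = 2 * (k * (2 * k - 1)) by ring,
          Nat.mul_div_cancel_left _ two_pos]
        rcases k with _ | k
        · simp
        · rw [show 2 * (k + 1) - 1 = 2 * k + 1 by omega]; ring
      · rw [show 2 * k + 1 - 1 = 2 * k by omega,
          show (2 * k + 1) * (2 * k) = 2 * ((2 * k + 1) * k) by ring,
          Nat.mul_div_cancel_left _ two_pos]
        ring
    have hsq : ∑ a, μ a * μ a + 2 * Fintype.card U = n * n := by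
      have hU' : Fintype.card U = (Finset.univ.filter fun p : Fin n × Fin n => b p.1 < b p.2).card :=
        Fintype.card_subtype _
      have hsymm : (Finset.univ.filter fun p : Fin n × Fin n => b p.2 < b p.1).card
          = (Finset.univ.filter fun p : Fin n × Fin n => b p.1 < b p.2).card :=
        Finset.card_bij' (fun p _ => p.swap) (fun p _ => p.swap) (fun p hp => by simpa using hp)
          (fun p hp => by simpa using hp) (fun p _ => p.swap_swap) fun p _ => p.swap_swap
      have hsplit : (Finset.univ.filter fun p : Fin n × Fin n => b p.1 = b p.2).card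
          + (Finset.univ.filter fun p : Fin n × Fin n => b p.1 < b p.2).card
          + (Finset.univ.filter fun p : Fin n × Fin n => b p.2 < b p.1).card = n * n := by
        have htot : n * n = ∑ _p : Fin n × Fin n, 1 := by simp
        rw [htot, Finset.card_filter, Finset.card_filter, Finset.card_filter,
          ← Finset.sum_add_distrib, ← Finset.sum_add_distrib]
        refine Finset.sum_congr rfl fun p _ => ?_
        rcases lt_trichotomy (b p.1) (b p.2) with h | h | h
        · simp [h, h.not_gt, h.ne]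
        · simp [h]
        · simp [h, h.not_gt, h.ne']
      have heq : (Finset.univ.filter fun p : Fin n × Fin n => b p.1 = b p.2).card
          = ∑ a, μ a * μ a := by
        rw [Finset.card_eq_sum_card_fiberwise (f := fun p : Fin n × Fin n => b p.2)
          (t := Finset.univ) (by simp)]
        refine Finset.sum_congr rfl fun a _ => ?_
        have hc : (Finset.univ.filter fun i => b i = a).card = μ a := by
          rw [← card_label hμ a, Fintype.card_subtype]
        rw [← hc, ← Finset.card_product, Finset.filter_filter]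
        congr 1
        ext ⟨i, j⟩
        simp only [Finset.mem_filter, Finset.mem_univ, true_and, Finset.mem_product]
        exact ⟨fun h => ⟨h.1.trans h.2, h.2⟩, fun h => ⟨h.1.trans h.2.symm, h.2⟩⟩
      omega
    have h2 : ∑ a, (2 * (μ a).choose 2 + μ a) = ∑ a, μ a * μ a :=
      Finset.sum_congr rfl fun a _ => h1 (μ a)
    rw [Finset.sum_add_distrib, ← Finset.mul_sum, hμ] at h2
    have := h1 n
    omega
  rw [← hU, pow_add]
  ring

theorem index_parabolic {μ : Fin n → ℕ} (hμ : ∑ i, μ i = n) :
    Nat.card (GL (Fin n) F ⧸ Cfsg.parabolicGL n F μ) * ∏ a, qFact (Fintype.card F) (μ a)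
      = qFact (Fintype.card F) n := by
  have h := Subgroup.card_eq_card_quotient_mul_card_subgroup (Cfsg.parabolicGL n F μ)
  rw [card_parabolic hμ, Matrix.card_GL_field, gl_order _ _ Fintype.card_pos] at h
  have hc : Fintype.card F ^ n.choose 2 * (Fintype.card F - 1) ^ n ≠ 0 := by
    have := Fintype.one_lt_card (α := F)
    exact mul_ne_zero (pow_ne_zero _ (by omega)) (pow_ne_zero _ (by omega))
  refine mul_left_cancel₀ hc ?_
  linear_combination -h

theorem qInt_shift (q l r : ℕ) (h : r ≤ l) :
    qInt q r + q ^ r * qInt q (l - r) = qInt q l := by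
  rw [qInt, qInt, qInt, Finset.mul_sum]
  conv_rhs => rw [show l = r + (l - r) by omega, Finset.sum_range_add]
  congr 1
  exact Finset.sum_congr rfl fun x _ => (pow_add q r x).symm

theorem qFact_fall (q l : ℕ) : ∀ j, j ≤ l →
    qFact q (l - j) * ∏ r ∈ Finset.range j, qInt q (l - r) = qFact q l := by
  intro j
  induction j with
  | zero => simp
  | succ j ih =>
    intro hj
    rw [Finset.prod_range_succ, ← ih (by omega), show l - j = l - (j + 1) + 1 by omega, qFact_succ]
    ring

theorem choose_three_eq (k : ℕ) : k * (k - 1) * (k - 2) / 6 = k.choose 3 := by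
  rw [Nat.choose_eq_descFactorial_div_factorial]
  simp [Nat.descFactorial, Nat.factorial]
  congr 1
  ring

theorem choose_two_sum (m : ℕ) :
    ∑ j : Fin m, j.val * (j.val - 1) / 2 = m * (m - 1) * (m - 2) / 6 := by
  rw [Fin.sum_univ_eq_sum_range (fun j => j * (j - 1) / 2) m, choose_three_eq]
  induction m with
  | zero => simp
  | succ m ih =>
    rw [Finset.sum_range_succ, ih, ← Nat.choose_two_right, Nat.choose_succ_succ m 2, add_comm]

/-- The degree in a form without division. -/
theorem degree_formula {q : ℕ} (hq : Fintype.card F = q) {ν : Fin n → ℕ} (hs : ∑ i, ν i = n) :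
    Cfsg.unipotentCharacterGL n F ν 1 * (q : ℂ) ^ (n * (n - 1) * (n - 2) / 6) *
        ∏ i : Fin n, ((qFact q (ν i + i.val) : ℕ) : ℂ)
      = (qFact q n : ℂ) * ∏ i : Fin n, ∏ j ∈ Finset.univ.filter (fun j : Fin n => i < j),
          ((qInt q (ν j + j.val) : ℂ) - (qInt q (ν i + i.val) : ℂ)) := by
  classical
  subst hq
  set q := Fintype.card F with hq
  let z : Fin n → ℂ := fun i => (qInt q (ν i + i.val) : ℂ)
  let P : Fin n → Polynomial ℂ := fun j =>
    ∏ r ∈ Finset.range j.val, (Polynomial.X - Polynomial.C (qInt q r : ℂ))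
  have hmonic : ∀ j, (P j).Monic := fun j =>
    Polynomial.monic_prod_of_monic _ _ fun r _ => Polynomial.monic_X_sub_C _
  have hdeg : ∀ j : Fin n, (P j).natDegree = j := fun j => by
    rw [Polynomial.natDegree_prod_of_monic _ _ fun r _ => Polynomial.monic_X_sub_C _]
    simp only [Polynomial.natDegree_X_sub_C, Finset.sum_const, Finset.card_range, smul_eq_mul,
      mul_one]
  have hdet := det_eval_matrixOfPolynomials_eq_det_vandermonde z P hdeg hmonic
  have hR : ∏ i : Fin n, ∏ j ∈ Finset.univ.filter (fun j : Fin n => i < j), (z j - z i)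
      = (vandermonde z).det := by
    rw [det_vandermonde]
    refine Finset.prod_congr rfl fun i _ => Finset.prod_congr ?_ fun _ _ => rfl
    ext j; simp
  show _ = (qFact q n : ℂ) * ∏ i : Fin n, ∏ j ∈ Finset.univ.filter (fun j : Fin n => i < j),
    (z j - z i)
  rw [hR, hdet, ← det_transpose, Matrix.det_apply, Finset.mul_sum, Cfsg.unipotentCharacterGL,
    Finset.sum_mul, Finset.sum_mul]
  refine Finset.sum_congr rfl fun κ _ => ?_
  simp only [Matrix.transpose_apply, Matrix.of_apply, P, Polynomial.eval_prod, Polynomial.eval_sub,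
    Polynomial.eval_X, Polynomial.eval_C, z]
  rw [Units.smul_def, zsmul_eq_mul]
  by_cases h : ∀ i : Fin n, (κ i).val ≤ ν i + i.val
  · rw [if_pos h]
    have hidx := index_parabolic (F := F) (sum_sub_perm' hs h)
    have hfix : Cfsg.fixedPointCharacter
        (Cfsg.parabolicGL n F fun i => ν i + i.val - (κ i).val) (1 : GL (Fin n) F)
        = (Nat.card (GL (Fin n) F ⧸ Cfsg.parabolicGL n F fun i => ν i + i.val - (κ i).val) : ℂ) := by
      rw [Cfsg.fixedPointCharacter]
      congr 1
      exact Nat.card_congr (Equiv.subtypeUnivEquiv fun x => one_smul _ x)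
    rw [hfix]
    have hterm : ∀ i : Fin n, ∏ r ∈ Finset.range (κ i).val,
        ((qInt q (ν i + i.val) : ℂ) - (qInt q r : ℂ))
        = (q : ℂ) ^ ((κ i).val * ((κ i).val - 1) / 2)
          * ((∏ r ∈ Finset.range (κ i).val, qInt q (ν i + i.val - r) : ℕ) : ℂ) := by
      intro i
      rw [Nat.cast_prod, ← Finset.sum_range_id, ← Finset.prod_pow_eq_pow_sum,
        ← Finset.prod_mul_distrib]
      refine Finset.prod_congr rfl fun r hr => ?_
      rw [Finset.mem_range] at hr
      rw [← qInt_shift q (ν i + i.val) r (hr.le.trans (h i))]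
      push_cast
      ring
    have hexp : ∑ i : Fin n, (κ i).val * ((κ i).val - 1) / 2 = n * (n - 1) * (n - 2) / 6 := by
      rw [Equiv.sum_comp κ (fun j : Fin n => j.val * (j.val - 1) / 2), choose_two_sum]
    rw [Finset.prod_congr rfl fun i _ => hterm i, Finset.prod_mul_distrib,
      Finset.prod_pow_eq_pow_sum, hexp]
    have hfall : ∀ i : Fin n, ((qFact q (ν i + i.val) : ℕ) : ℂ)
        = (qFact q (ν i + i.val - (κ i).val) : ℂ)
          * ((∏ r ∈ Finset.range (κ i).val, qInt q (ν i + i.val - r) : ℕ) : ℂ) := fun i => by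
      rw [← Nat.cast_mul, qFact_fall q _ _ (h i)]
    rw [Finset.prod_congr rfl fun i _ => hfall i, Finset.prod_mul_distrib, ← hidx]
    push_cast
    ring
  · rw [if_neg h, zero_mul, zero_mul]
    push Not at h
    obtain ⟨i, hi⟩ := h
    rw [Finset.prod_eq_zero (Finset.mem_univ i) (Finset.prod_eq_zero (Finset.mem_range.2 hi)
      (sub_self _)), mul_zero, mul_zero]
where
  sum_sub_perm' {ν : Fin n → ℕ} (hs : ∑ i, ν i = n) {κ : Equiv.Perm (Fin n)}
      (hκ : ∀ i : Fin n, (κ i).val ≤ ν i + i.val) :
      ∑ i : Fin n, (ν i + i.val - (κ i).val) = n := by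
    have h1 : ∑ i : Fin n, (ν i + i.val - (κ i).val) + ∑ i : Fin n, (κ i).val
        = ∑ i : Fin n, (ν i + i.val) := by
      rw [← Finset.sum_add_distrib]
      exact Finset.sum_congr rfl fun i _ => Nat.sub_add_cancel (hκ i)
    rw [Equiv.sum_comp κ (fun i : Fin n => i.val), Finset.sum_add_distrib, hs] at h1
    omega

theorem degree_pos {q : ℕ} (hq : Fintype.card F = q) {ν : Fin n → ℕ} (hmono : Monotone ν)
    (hs : ∑ i, ν i = n) : 0 < (Cfsg.unipotentCharacterGL n F ν 1).re := by
  classical
  have h := degree_formula hq hs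
  have hq1 : 1 < q := hq ▸ Fintype.one_lt_card
  set A : ℝ := (q : ℝ) ^ (n * (n - 1) * (n - 2) / 6) * ∏ i : Fin n, ((qFact q (ν i + i.val) : ℕ) : ℝ)
  set B : ℝ := (qFact q n : ℝ) * ∏ i : Fin n, ∏ j ∈ Finset.univ.filter (fun j : Fin n => i < j),
          ((qInt q (ν j + j.val) : ℝ) - (qInt q (ν i + i.val) : ℝ))
  have hA : 0 < A := mul_pos (pow_pos (by exact_mod_cast lt_trans zero_lt_one hq1) _)
    (Finset.prod_pos fun i _ => by exact_mod_cast qFact_pos _ _)
  have hB : 0 < B := by
    refine mul_pos (by exact_mod_cast qFact_pos _ _) (Finset.prod_pos fun i _ => ?_)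
    refine Finset.prod_pos fun j hj => ?_
    rw [Finset.mem_filter] at hj
    rw [sub_pos, Nat.cast_lt]
    exact Finset.sum_lt_sum_of_subset
      (Finset.range_subset_range.2 (add_le_add (hmono hj.2.le) hj.2.le))
      (i := ν i + i.val) (by simp; exact add_lt_add_of_le_of_lt (hmono hj.2.le) hj.2) (by simp)
      (pow_pos (by omega) _) fun _ _ _ => Nat.zero_le _
  have h' : Cfsg.unipotentCharacterGL n F ν 1 * (A : ℂ) = (B : ℂ) := by
    simp only [A, B]
    push_cast
    rw [← mul_assoc]
    exact h
  have := congrArg Complex.re h'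
  simp at this
  nlinarith

end CfsgLib.GLUnipotent
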