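import Mathlib
import Cfsg.Agent.Lib.GLUnipotent.DoubleCoset
import Cfsg.Agent.Lib.GLUnipotent.Cauchy
import Cfsg.Agent.Lib.Char.PermChar
import Cfsg.Agent.Lib.Char.Generalized

/-!
Orthonormality of the alternating sums of flag characters.
-/

set_option autoImplicit false

namespace CfsgLib.GLUnipotent

open scoped ComplexConjugate

theorem inner_fixedPoint {G : Type*} [Group G] [Fintype G] (P Q : Subgroup G) :
    Cfsg.classInner (Cfsg.fixedPointCharacter P) (Cfsg.fixedPointCharacter Q)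
      = (Nat.card (Quotient (MulAction.orbitRel G ((G ⧸ P) × (G ⧸ Q)))) : ℂ) := by
  rw [CfsgLib.Char.classInner_def, inv_mul_eq_iff_eq_mul₀ CfsgLib.Char.card_ne_zero',
    ← CfsgLib.Char.sum_fixed_eq_card_orbits]
  refine Finset.sum_congr rfl fun g _ => ?_
  simp only [Cfsg.fixedPointCharacter]
  rw [map_natCast, ← Nat.cast_mul, ← Nat.card_prod, Nat.cast_inj]
  refine Nat.card_congr ((Equiv.Set.prod _ _).symm.trans (Equiv.setCongr (by
    ext ⟨a, b⟩; simp [MulAction.mem_fixedBy, Prod.ext_iff])))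

variable {n : ℕ} {F : Type*} [Field F] [Fintype F]

theorem isGen_fixedPoint {G : Type*} [Group G] [Fintype G] (P : Subgroup G) :
    Cfsg.IsGeneralizedCharacter G (Cfsg.fixedPointCharacter P) :=
  CfsgLib.Char.isGen_of_char (CfsgLib.Char.isCharacter_permChar (G := G) (X := G ⧸ P))

theorem sum_sub_perm {ν : Fin n → ℕ} (hs : ∑ i, ν i = n) {κ : Equiv.Perm (Fin n)}
    (hκ : ∀ i : Fin n, (κ i).val ≤ ν i + i.val) :
    ∑ i : Fin n, (ν i + i.val - (κ i).val) = n := by
  have h1 : ∑ i : Fin n, (ν i + i.val - (κ i).val) + ∑ i : Fin n, (κ i).val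
      = ∑ i : Fin n, (ν i + i.val) := by
    rw [← Finset.sum_add_distrib]
    exact Finset.sum_congr rfl fun i _ => Nat.sub_add_cancel (hκ i)
  rw [Equiv.sum_comp κ (fun i : Fin n => i.val), Finset.sum_add_distrib, hs] at h1
  omega

theorem classInner_unipotent [DecidableEq F] {ν ν' : Fin n → ℕ} (hν : Monotone ν)
    (hνs : ∑ i, ν i = n) (hν' : Monotone ν') (hν's : ∑ i, ν' i = n) :
    Cfsg.classInner (Cfsg.unipotentCharacterGL n F ν) (Cfsg.unipotentCharacterGL n F ν')
      = if ν = ν' then 1 else 0 := by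
  classical
  have hterm : ∀ μ : Fin n → ℕ, Cfsg.unipotentCharacterGL n F μ
      = ∑ κ : Equiv.Perm (Fin n), (if ∀ i : Fin n, (κ i).val ≤ μ i + i.val
          then ((Equiv.Perm.sign κ : ℤ) : ℂ) else 0)
        • Cfsg.fixedPointCharacter (Cfsg.parabolicGL n F fun i => μ i + i.val - (κ i).val) := by
    intro μ
    funext g
    rw [Cfsg.unipotentCharacterGL, Finset.sum_apply]
    refine Finset.sum_congr rfl fun κ _ => ?_
    rw [Pi.smul_apply, smul_eq_mul]
    split_ifs <;> simp
  rw [hterm ν, hterm ν', CfsgLib.Char.classInner_sum_left]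
  simp only [CfsgLib.Char.classInner_sum_right, CfsgLib.Char.classInner_smul_left,
    CfsgLib.Char.classInner_smul_right, inner_fixedPoint]
  have hl : ∀ {μ : Fin n → ℕ}, Monotone μ → StrictMono fun i : Fin n => μ i + i.val :=
    fun hμ a b hab => add_lt_add_of_le_of_lt (hμ hab.le) hab
  have key := alternating_margins (fun i : Fin n => ν i + i.val) (fun i : Fin n => ν' i + i.val)
    (hl hν) (hl hν')
  have e : (fun i : Fin n => ν i + i.val) = (fun i : Fin n => ν' i + i.val) ↔ ν = ν' :=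
    ⟨fun h => funext fun i => Nat.add_right_cancel (congrFun h i), fun h => by rw [h]⟩
  simp only [e] at key
  have key' := congrArg (fun z : ℤ => (z : ℂ)) key
  simp only [Int.cast_sum] at key'
  rw [show ((if ν = ν' then (1 : ℂ) else 0)) = ((if ν = ν' then (1 : ℤ) else 0 : ℤ) : ℂ) by
    split_ifs <;> simp, ← key']
  refine Finset.sum_congr rfl fun κ _ => Finset.sum_congr rfl fun κ' _ => ?_
  by_cases h1 : ∀ i : Fin n, (κ i).val ≤ ν i + i.val
  swap
  · simp [h1]
  by_cases h2 : ∀ i : Fin n, (κ' i).val ≤ ν' i + i.val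
  swap
  · simp [h2]
  rw [if_pos h1, if_pos h2, if_pos ⟨h1, h2⟩,
    card_orbits_gl F (sum_sub_perm hνs h1) (sum_sub_perm hν's h2)]
  simp
  ring

theorem isGen_unipotent [DecidableEq F] (ν : Fin n → ℕ) :
    Cfsg.IsGeneralizedCharacter (GL (Fin n) F) (Cfsg.unipotentCharacterGL n F ν) := by
  classical
  have e : Cfsg.unipotentCharacterGL n F ν = ∑ κ : Equiv.Perm (Fin n),
      (((if ∀ i : Fin n, (κ i).val ≤ ν i + i.val then (Equiv.Perm.sign κ : ℤ) else 0 : ℤ)) : ℂ)
        • Cfsg.fixedPointCharacter (Cfsg.parabolicGL n F fun i => ν i + i.val - (κ i).val) := by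
    funext g
    rw [Cfsg.unipotentCharacterGL, Finset.sum_apply]
    refine Finset.sum_congr rfl fun κ _ => ?_
    rw [Pi.smul_apply, smul_eq_mul]
    split_ifs <;> simp
  rw [e]
  exact CfsgLib.Char.isGen_sum _ fun κ _ =>
    CfsgLib.Char.isGen_intCast_smul (isGen_fixedPoint _) _

end CfsgLib.GLUnipotent
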